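import Groth.Agent.SpUnion5.Schemes
import Groth.Agent.AlgSpDec.RedInduced
import Groth.Agent.AlgSpDec.Glue
import Groth.Agent.AlgSpLib.Sheaf
import Groth.Agent.S10045
import Groth.Agent.AlgSpC7.SheafGlue

/-!
# A minimal non-scheme is reduced and irreducible
-/

set_option backward.isDefEq.respectTransparency false
set_option backward.isDefEq.respectTransparency.types false
set_option autoImplicit false
set_option linter.style.haveILetI false

universe u

open CategoryTheory CategoryTheory.Limits AlgebraicGeometry Opposite AlgSp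
open Groth.Agent.AlgSpLib Groth.Agent.AlgSpPts Groth.Agent.AlgSpDec

namespace Groth.Agent.SpUnion5

variable {S : Scheme.{u}}

theorem isRepresentable_of_isEmpty {X : Sp S} (hX : IsAlgSpace X) [IsEmpty (Points X)] : X.obj.IsRepresentable := by
  obtain ⟨U, p, hp, hps⟩ := hX.atlas
  have : IsEmpty ↥U.left := ⟨fun t => IsEmpty.false (Points.ofPt p t)⟩
  have : Mono p := ⟨fun {R} a b _ => AlgSpC7.SheafGlue.hom_ext_yon fun T g => by
    obtain ⟨k, hk⟩ : ∃ k : T ⟶ U, (yon S).map k = g ≫ a := ⟨_, (yon S).map_preimage _⟩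
    have : IsEmpty ↥T.left := ⟨fun t => IsEmpty.false (k.left.base t)⟩
    exact hom_ext_of_isEmpty _ _⟩
  have := AlgSpLib.epi_of_etale_surjective hp hps
  have : IsIso p := isIso_of_mono_of_epi p
  exact isRepresentable_of_iso (asIso p)

theorem isReducedSp_of_iso {Z X : Sp S} (hZ : IsReducedSp Z) (i : Z ⟶ X) [IsIso i] : IsReducedSp X := by
  obtain ⟨U, φ, hφ, hφs, hU⟩ := hZ
  exact ⟨U, φ ≫ i,
    repWith_comp hφ
        (repWith_of_isPullback (IsPullback.of_horiz_isIso (fst := i) (snd := i) (f := 𝟙 X) (g := 𝟙 X)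
          ⟨by rw [Category.comp_id]⟩) (MorphismProperty.id_mem _ X)),
    repWith_comp hφs
      (repWith_of_isPullback (IsPullback.of_horiz_isIso (fst := i) (snd := i) (f := 𝟙 X) (g := 𝟙 X)
        ⟨by rw [Category.comp_id]⟩) (MorphismProperty.id_mem _ X)), hU⟩

variable (X : Space S) (hX : ¬ X.obj.obj.IsRepresentable)
  (hmin : ∀ (Z : Space S) (i : Z ⟶ X), RepWith @IsClosedImmersion i.hom → ¬ IsIso i → Z.obj.obj.IsRepresentable)

include hX hmin in
theorem isReducedSp_of_minimal : IsReducedSp X.obj := by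
  obtain ⟨Z, j, hj⟩ := exists_reduced_induced X.property (T := Set.univ) isClosed_univ
  let i : Z ⟶ X := ObjectProperty.homMk j
  by_cases hi : IsIso i
  · have : IsIso i.hom := inferInstanceAs (IsIso ((ObjectProperty.ι _).map i))
    exact isReducedSp_of_iso hj.2.2 i.hom
  · exact absurd (S10045.result S X Z i hj (hmin Z i hj.1 hi)) hX

include hX hmin in
theorem irreducibleSpace_of_minimal : IrreducibleSpace (Points X.obj) := by
  have hred := isReducedSp_of_minimal X hX hmin
  have hne : Nonempty (Points X.obj) := by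
    rw [← not_isEmpty_iff]
    intro h
    exact hX (isRepresentable_of_isEmpty X.property)
  have key : ∀ {T : Set (Points X.obj)}, IsClosed T → T ≠ Set.univ →
      ∃ (Y : Over S) (z : (yon S).obj Y ⟶ X.obj), RepWith @IsClosedImmersion z ∧ Set.range (Points.map z) = T := fun {T} hT hne => by
    obtain ⟨Z, j, hj⟩ := exists_reduced_induced X.property hT
    have hi : ¬ IsIso (ObjectProperty.homMk j : Z ⟶ X) := fun h => by
      have : IsIso j := inferInstanceAs (IsIso ((ObjectProperty.ι _).map (ObjectProperty.homMk j : Z ⟶ X)))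
      refine hne (hj.2.1 ▸ Set.eq_univ_of_forall fun x => ⟨Points.map (inv j) x, ?_⟩)
      rw [← Points.map_comp, IsIso.inv_hom_id, Points.map_id]
    obtain ⟨Y, ⟨r⟩⟩ := (hmin Z _ hj.1 hi).has_representation
    let e := AlgSp.isoOfRepresentableBy r
    refine ⟨Y, e.hom ≫ j, repWith_comp (repWith_of_isPullback (IsPullback.of_horiz_isIso (fst := e.hom) (snd := e.hom) (f := 𝟙 _) (g := 𝟙 _)
      ⟨by rw [Category.comp_id]⟩) (MorphismProperty.id_mem _ _)) hj.1, ?_⟩
    rw [← hj.2.1]
    ext x
    constructor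
    · rintro ⟨p, rfl⟩; exact ⟨Points.map e.hom p, (Points.map_comp _ _ _).symm⟩
    · rintro ⟨p, rfl⟩
      refine ⟨Points.map e.inv p, ?_⟩
      rw [← Points.map_comp, Iso.inv_hom_id_assoc]
  refine (irreducibleSpace_def _).2 ⟨⟨hne.some, trivial⟩, isPreirreducible_iff_isClosed_union_isClosed.2 fun z₁ z₂ h₁ h₂ h => ?_⟩
  by_contra hc
  rw [not_or] at hc
  obtain ⟨Y₁, a, ha, ra⟩ := key h₁ (fun e => hc.1 e.ge)
  obtain ⟨Y₂, b, hb, rb⟩ := key h₂ (fun e => hc.2 e.ge)
  obtain ⟨Q, ⟨e⟩⟩ := exists_iso_of_two_closed X.property hred ha hb (by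
    rw [ra, rb]; exact Set.univ_subset_iff.1 h)
  exact hX (isRepresentable_of_iso e)

end Groth.Agent.SpUnion5
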