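import Groth.Agent.SpUnion5.Local
import Groth.Agent.AlgSpOne.NormGlue
import Groth.Agent.AlgSpDec.SchImage
import Groth.Agent.AlgSpDec.IdealFactor
import Groth.Agent.AlgSpQ4.Induction

/-!
# The scheme-theoretic union is a pushout in algebraic spaces
-/

set_option backward.isDefEq.respectTransparency false
set_option backward.isDefEq.respectTransparency.types false
set_option autoImplicit false
set_option linter.style.haveILetI false

universe u

open CategoryTheory CategoryTheory.Limits AlgebraicGeometry Opposite AlgSp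
open Groth.Agent.AlgSpLib Groth.Agent.AlgSpDec

namespace Groth.Agent.SpUnion5

variable {S : Scheme.{u}} {T : Sp S} (hT : IsAlgSpace T)

theorem points_yon_surj {W : Over S} {ι : Type u} {P : ι → Over S} (e : ∀ l, P l ⟶ W)
    (h : ∀ w : ↥W.left, ∃ l v, (e l).left v = w) (x : Points ((yon S).obj W)) :
    ∃ l v, Points.ofPt ((yon S).map (e l)) v = x := by
  obtain ⟨l, v, hv⟩ := h (Points.toScheme W x)
  exact ⟨l, v, (Points.schemeEquiv W).symm.injective ((Points.toScheme_ofPt (e l) v).trans hv)⟩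

include hT in
theorem exists_desc_scheme {W Y Z : Over S} {i : Y ⟶ W} {j : Z ⟶ W} (hu : IsUnion i.left j.left)
    {f : (yon S).obj Y ⟶ T} {g : (yon S).obj Z ⟶ T}
    (hfg : ∀ (T' : Over S) (a : T' ⟶ Y) (b : T' ⟶ Z), a ≫ i = b ≫ j →
      (yon S).map a ≫ f = (yon S).map b ≫ g) :
    ∃ h : (yon S).obj W ⟶ T, (yon S).map i ≫ h = f ∧ (yon S).map j ≫ h = g := by
  choose P e h hP he hw hs using fun w => exists_sol hT hu hfg w
  have het : ∀ w, RepWith @Etale ((yon S).map (e w)) := fun w => (repWith_yon_map_iff @Etale (e w)).2 (he w)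
  have hsurj : ∀ w : ↥W.left, ∃ l v, (e l).left v = w := fun w => ⟨w, hw w⟩
  obtain ⟨H, hH, -⟩ := AlgSpOne.existsUnique_desc_family (IsAlgSpace.yon_obj W) P (fun w => (yon S).map (e w))
    het (points_yon_surj e hsurj) h (fun l m O a b hab => by
      have hab' : a ≫ e l = b ≫ e m := (yon S).map_injective (by rw [Functor.map_comp, Functor.map_comp]; exact hab)
      obtain ⟨R, r₁, r₂, sq, sq'⟩ := exists_isPullback_over (e l) (e m)
      have := he l
      have := he m
      have : Flat r₁.left := MorphismProperty.of_isPullback (P := @Flat) sq'.flip inferInstance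
      have : Flat (r₁ ≫ e l).left := inferInstanceAs (Flat (r₁.left ≫ (e l).left))
      have key : (yon S).map r₁ ≫ h l = (yon S).map r₂ ≫ h m := by
        refine uniq hT hu (r₁ ≫ e l) _ _ fun T' t ht => ?_
        rw [← Functor.map_comp_assoc, ← Functor.map_comp_assoc]
        rcases ht with ⟨k, hk⟩ | ⟨k, hk⟩
        · rw [(hs l T' (t ≫ r₁)).1 k (by rw [hk, Category.assoc]),
            (hs m T' (t ≫ r₂)).1 k (by rw [hk, sq.w, Category.assoc])]
        · rw [(hs l T' (t ≫ r₁)).2 k (by rw [hk, Category.assoc]),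
            (hs m T' (t ≫ r₂)).2 k (by rw [hk, sq.w, Category.assoc])]
      have h1 := sq.lift_fst a b hab'
      have h2 := sq.lift_snd a b hab'
      generalize sq.lift a b hab' = o at h1 h2
      rw [← h1, ← h2, Functor.map_comp, Functor.map_comp, Category.assoc, Category.assoc, key])
  have hres : ∀ {Y' : Over S} (i' : Y' ⟶ W) (f' : (yon S).obj Y' ⟶ T),
      (∀ l (T' : Over S) (t : T' ⟶ P l) k, k ≫ i' = t ≫ e l → (yon S).map t ≫ h l = (yon S).map k ≫ f') →
      (yon S).map i' ≫ H = f' := fun {Y'} i' f' hc => by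
    choose R a b sq sq' using fun l => exists_isPullback_over i' (e l)
    have haet : ∀ l, Etale (a l).left := fun l =>
      MorphismProperty.of_isPullback (P := @Etale) (sq' l).flip (he l)
    obtain ⟨G, -, hG⟩ := AlgSpOne.existsUnique_desc_family (IsAlgSpace.yon_obj Y') R (fun l => (yon S).map (a l))
      (fun l => (repWith_yon_map_iff @Etale (a l)).2 (haet l)) (points_yon_surj a fun y => by
        obtain ⟨l, v, hv⟩ := hsurj (i'.left y)
        obtain ⟨z, hz, -⟩ := Scheme.exists_preimage_of_isPullback (sq' l) y v hv.symm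
        exact ⟨l, z, hz⟩)
      (fun l => (yon S).map (a l) ≫ f') (fun l m O p q hpq => by
        rw [← Category.assoc, ← Category.assoc, hpq])
    refine (hG _ fun l => ?_).trans (hG f' fun l => rfl).symm
    rw [← Functor.map_comp_assoc, (sq l).w, Functor.map_comp, Category.assoc, hH l, hc l _ _ _ (sq l).w]
  exact ⟨H, hres i f fun l T' t k hk => (hs l T' t).1 k hk, hres j g fun l T' t k hk => (hs l T' t).2 k hk⟩

theorem ker_of_isPullback {X Z : Sp S} {i : Z ⟶ X} (hi : Representable i) (E : EtOver X)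
    (hE : IsAffine E.obj.left.left) {P : Over S} {k : (yon S).obj P ⟶ Z} {s : P ⟶ E.obj.left}
    (sq : IsPullback k ((yon S).map s) i E.obj.hom) :
    (idealOfRep hi).ideal E hE = RingHom.ker s.left.appTop.hom := by
  let hc := hi.isPullback E.obj.hom
  let θ : (EtOver.bcObj hi E).obj.left ≅ P := (yon S).preimageIso (hc.isoIsPullback _ _ sq)
  have hθ : θ.hom ≫ s = EtOver.bcπ hi E := (yon S).map_injective (by
    rw [Functor.map_comp, Functor.preimageIso_hom, Functor.map_preimage]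
    exact hc.isoIsPullback_hom_snd _ _ sq)
  show RingHom.ker (EtOver.bcπ hi E).left.appTop.hom = _
  rw [← hθ, Over.comp_left, Scheme.Hom.comp_appTop, CommRingCat.hom_comp]
  have : IsIso θ.hom.left := inferInstanceAs (IsIso ((Over.forget S).map θ.hom))
  exact RingHom.ker_comp_of_injective _ (ConcreteCategory.bijective_of_isIso θ.hom.left.appTop).1

include hT in
/-- Maps glue along two closed subspaces which form a union on every member of an etale cover. -/
theorem existsUnique_desc_of_cover {Y Z W : Sp S} (hW : IsAlgSpace W) (hY : IsAlgSpace Y) (hZ : IsAlgSpace Z)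
    {a : Y ⟶ W} {b : Z ⟶ W} {ι : Type u} (Wl : ι → Over S) (mW : ∀ l, (yon S).obj (Wl l) ⟶ W)
    (hmW : ∀ l, RepWith @Etale (mW l)) (hcov : ∀ x, ∃ l t, Points.ofPt (mW l) t = x)
    (Yl Zl : ι → Over S) (fY : ∀ l, (yon S).obj (Yl l) ⟶ Y) (i : ∀ l, Yl l ⟶ Wl l)
    (fZ : ∀ l, (yon S).obj (Zl l) ⟶ Z) (j : ∀ l, Zl l ⟶ Wl l)
    (sqY : ∀ l, IsPullback (fY l) ((yon S).map (i l)) a (mW l))
    (sqZ : ∀ l, IsPullback (fZ l) ((yon S).map (j l)) b (mW l)) (hu : ∀ l, IsUnion (i l).left (j l).left)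
    (f : Y ⟶ T) (g : Z ⟶ T)
    (hfg' : ∀ (T' : Over S) (y : (yon S).obj T' ⟶ Y) (z : (yon S).obj T' ⟶ Z), y ≫ a = z ≫ b → y ≫ f = z ≫ g) :
    ∃! m : W ⟶ T, a ≫ m = f ∧ b ≫ m = g := by
  have hsol : ∀ l, ∃ h : (yon S).obj (Wl l) ⟶ T,
      (yon S).map (i l) ≫ h = fY l ≫ f ∧ (yon S).map (j l) ≫ h = fZ l ≫ g := fun l =>
    exists_desc_scheme hT (hu l) fun T' y z hyz => by
      rw [← Category.assoc, ← Category.assoc]
      refine hfg' T' _ _ ?_
      rw [Category.assoc, (sqY l).w, Category.assoc, (sqZ l).w, ← Functor.map_comp_assoc, hyz,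
        Functor.map_comp_assoc]
  choose h hi hj using hsol
  obtain ⟨m, hm, hmu⟩ := AlgSpOne.existsUnique_desc_family hW Wl mW hmW hcov h (fun l l' O p q hpq => by
    let R := (hmW l').rep.pullback (mW l)
    let r₁ : R ⟶ Wl l := (hmW l').rep.snd (mW l)
    let r₂ : R ⟶ Wl l' := (hmW l').rep.fst' (mW l)
    have sqR : IsPullback ((yon S).map r₂) ((yon S).map r₁) (mW l') (mW l) := (hmW l').rep.isPullback' (mW l)
    have : Etale r₁.left := (hmW l').property_snd (mW l)
    have key : (yon S).map r₁ ≫ h l = (yon S).map r₂ ≫ h l' := by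
      refine uniq hT (hu l) r₁ _ _ fun T' t ht => ?_
      rw [← Functor.map_comp_assoc, ← Functor.map_comp_assoc]
      have hw' : (yon S).map (t ≫ r₁) ≫ mW l = (yon S).map (t ≫ r₂) ≫ mW l' := by
        rw [Functor.map_comp_assoc, Functor.map_comp_assoc, sqR.w]
      rcases ht with ⟨k, hk⟩ | ⟨k, hk⟩
      · have hc1 : ((yon S).map k ≫ fY l) ≫ a = (yon S).map (t ≫ r₂) ≫ mW l' := by
          rw [Category.assoc, (sqY l).w, ← Functor.map_comp_assoc, hk, hw']
        let k' : T' ⟶ Yl l' := (yon S).preimage ((sqY l').lift _ _ hc1)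
        have hk' : k' ≫ i l' = t ≫ r₂ := (yon S).map_injective (by
          rw [Functor.map_comp, Functor.map_preimage, (sqY l').lift_snd])
        rw [← hk, ← hk', Functor.map_comp_assoc, Functor.map_comp_assoc, hi, hi, Functor.map_preimage,
          (sqY l').lift_fst_assoc, Category.assoc]
      · have hc1 : ((yon S).map k ≫ fZ l) ≫ b = (yon S).map (t ≫ r₂) ≫ mW l' := by
          rw [Category.assoc, (sqZ l).w, ← Functor.map_comp_assoc, hk, hw']
        let k' : T' ⟶ Zl l' := (yon S).preimage ((sqZ l').lift _ _ hc1)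
        have hk' : k' ≫ j l' = t ≫ r₂ := (yon S).map_injective (by
          rw [Functor.map_comp, Functor.map_preimage, (sqZ l').lift_snd])
        rw [← hk, ← hk', Functor.map_comp_assoc, Functor.map_comp_assoc, hj, hj, Functor.map_preimage,
          (sqZ l').lift_fst_assoc, Category.assoc]
    let o : O ⟶ R := (hmW l').rep.lift' q p hpq.symm
    have ho1 : o ≫ r₁ = p := (hmW l').rep.lift'_snd q p hpq.symm
    have ho2 : o ≫ r₂ = q := (hmW l').rep.lift'_fst q p hpq.symm
    rw [← ho1, ← ho2, Functor.map_comp_assoc, Functor.map_comp_assoc, key])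
  have hres : ∀ {Q : Sp S} (hQ : IsAlgSpace Q) (a' : Q ⟶ W) (f' : Q ⟶ T) (Ql : ι → Over S)
      (fQ : ∀ l, (yon S).obj (Ql l) ⟶ Q) (s : ∀ l, Ql l ⟶ Wl l)
      (sq : ∀ l, IsPullback (fQ l) ((yon S).map (s l)) a' (mW l))
      (hcomp : ∀ l, (yon S).map (s l) ≫ h l = fQ l ≫ f'), a' ≫ m = f' := by
    intro Q hQ a' f' Ql fQ s sq hcomp
    obtain ⟨G, -, hG⟩ := AlgSpOne.existsUnique_desc_family hQ Ql fQ
      (fun l => repWith_of_isPullback (sq l).flip (hmW l)) (fun x => by
        obtain ⟨l, t, ht⟩ := hcov (Points.map a' x)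
        obtain ⟨z, hz1, -⟩ := exists_point_of_isPullback (sq l) (x := x) (y := Points.schemeEquiv (Wl l) t) (by
          rw [← ht, Points.ofPt_eq_map_ofScheme]; rfl)
        exact ⟨l, Points.toScheme _ z, by rw [Points.ofPt_eq_map_ofScheme, Points.ofScheme_toScheme, hz1]⟩)
      (fun l => fQ l ≫ f') (fun l m O p q hpq => by rw [← Category.assoc, ← Category.assoc, hpq])
    refine (hG _ fun l => ?_).trans (hG f' fun l => rfl).symm
    rw [← Category.assoc, (sq l).w, Category.assoc, hm l, hcomp l]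
  refine ⟨m, ⟨hres hY a f Yl fY i sqY hi, ?_⟩, fun m' hm' => hmu m' fun l => ?_⟩
  · exact hres hZ b g Zl fZ j sqZ hj
  · refine uniq_affine hT (hu l) _ _ ?_ ?_
    · rw [hi, ← Category.assoc, ← (sqY l).w, Category.assoc, hm'.1]
    · rw [hj, ← Category.assoc, ← (sqZ l).w, Category.assoc, hm'.2]


variable {X Y Z W V : Sp S} (hX : IsAlgSpace X) (hY : IsAlgSpace Y) {iY : Y ⟶ X} {iZ : Z ⟶ X}
  {w : W ⟶ X} {v : V ⟶ X} {I J K : IdealEt X}
  (hK : ∀ (E : EtOver X) (hE : IsAffine E.obj.left.left), K.ideal E hE = I.ideal E hE ⊓ J.ideal E hE)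
  (hYc : IsCutOutBy I iY) (hZc : IsCutOutBy J iZ) (hWc : IsCutOutBy K w) (hVc : IsCutOutBy (I ⊔ J) v)
  {a : Y ⟶ W} {b : Z ⟶ W} {c : V ⟶ Y} {d : V ⟶ Z}
  (ha : a ≫ w = iY) (hb : b ≫ w = iZ) (hc : c ≫ iY = v) (hd : d ≫ iZ = v)

include hWc ha hYc in
theorem repWith_left : RepWith @IsClosedImmersion a := by
  obtain ⟨hw, -⟩ := hWc
  have := mono_of_closedImmersion hw
  refine AlgSpQ4.repWith_of_comp_mono a w ?_
  rw [ha]; exact hYc.1

include hX hYc hZc hVc hc hd in
theorem exists_lift_inter {T' : Over S} (y : (yon S).obj T' ⟶ Y) (z : (yon S).obj T' ⟶ Z) (hyz : y ≫ iY = z ≫ iZ) :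
    ∃ k, k ≫ c = y ∧ k ≫ d = z := by
  obtain ⟨hy', rfl⟩ := hYc
  obtain ⟨hz', rfl⟩ := hZc
  obtain ⟨hv', hv2⟩ := hVc
  have := mono_of_closedImmersion hy'
  have := mono_of_closedImmersion hz'
  have hh : Representable (y ≫ iY) := hX.representable_from_yon _
  have h1 := (idealOfRep_le_iff_factor (IsAlgSpace.yon_obj T') hX hy' hh).2 ⟨y, rfl⟩
  have h2 := (idealOfRep_le_iff_factor (IsAlgSpace.yon_obj T') hX hz' hh).2 ⟨z, hyz.symm⟩
  obtain ⟨k, hk⟩ := (idealOfRep_le_iff_factor (IsAlgSpace.yon_obj T') hX hv' hh).1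
    (fun E hE => by rw [hv2]; exact sup_le (h1 E hE) (h2 E hE))
  exact ⟨k, by rw [← cancel_mono iY, Category.assoc, hc, hk],
    by rw [← cancel_mono iZ, Category.assoc, hd, hk, hyz]⟩

include hT hX hY hK hYc hZc hWc hVc ha hb hc hd in
theorem existsUnique_desc (hW : IsAlgSpace W) (hZ : IsAlgSpace Z) (f : Y ⟶ T) (g : Z ⟶ T) (hfg : c ≫ f = d ≫ g) :
    ∃! m : W ⟶ T, a ≫ m = f ∧ b ≫ m = g := by
  have ha' := repWith_left hYc hWc ha
  have hb' := repWith_left hZc hWc hb
  have hfg' : ∀ (T' : Over S) (y : (yon S).obj T' ⟶ Y) (z : (yon S).obj T' ⟶ Z), y ≫ a = z ≫ b →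
      y ≫ f = z ≫ g := fun T' y z h => by
    obtain ⟨k, rfl, rfl⟩ := exists_lift_inter hX hYc hZc hVc hc hd y z (by
      rw [← ha, ← hb, ← Category.assoc, h, Category.assoc])
    rw [Category.assoc, hfg, Category.assoc]
  obtain ⟨hw, hwK⟩ := hWc
  obtain ⟨hy, hyI⟩ := hYc
  obtain ⟨hz, hzJ⟩ := hZc
  obtain ⟨U, p, hpe, hps⟩ := hX.atlas
  let ι := {O : U.left.Opens // IsAffineOpen O}
  let U' : ι → Over S := fun l => Over.mk (l.1.ι ≫ U.hom)
  let φ : ∀ l, (yon S).obj (U' l) ⟶ X := fun l => (yon S).map (Over.homMk l.1.ι rfl) ≫ p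
  have hφ : ∀ l, RepWith @Etale (φ l) := fun l => repWith_comp
    ((repWith_yon_map_iff @Etale _).2 (inferInstanceAs (Etale l.1.ι))) hpe
  let Wl : ι → Over S := fun l => hw.rep.pullback (φ l)
  let mW : ∀ l, (yon S).obj (Wl l) ⟶ W := fun l => hw.rep.fst (φ l)
  let sl : ∀ l, Wl l ⟶ U' l := fun l => hw.rep.snd (φ l)
  have sqW : ∀ l, IsPullback (mW l) ((yon S).map (sl l)) w (φ l) := fun l => hw.rep.isPullback (φ l)
  have hmW : ∀ l, RepWith @Etale (mW l) := fun l => repWith_of_isPullback (sqW l).flip (hφ l)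
  have hcov : ∀ x, ∃ l t, Points.ofPt (mW l) t = x := fun x => by
    obtain ⟨t, ht⟩ := surjective_ofPt hps (Points.map w x)
    obtain ⟨O, hO, htO, -⟩ := exists_isAffineOpen_mem_and_subset (U := (⊤ : U.left.Opens))
      (TopologicalSpace.Opens.mem_top t)
    let l : ι := ⟨O, hO⟩
    obtain ⟨z, hz1, -⟩ := exists_point_of_isPullback (sqW l) (x := x)
      (y := Points.schemeEquiv (U' l) (⟨t, htO⟩ : O.toScheme)) (by
        refine ht.symm.trans ?_
        show Points.ofPt p ((l.1.ι).base (⟨t, htO⟩ : O.toScheme)) = Points.map (φ l) (Points.ofScheme _ _)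
        exact (ofPt_comp (Over.homMk l.1.ι rfl : U' l ⟶ U) p (⟨t, htO⟩ : O.toScheme)).symm.trans
          (Points.ofPt_eq_map_ofScheme _ _))
    refine ⟨l, Points.toScheme _ z, ?_⟩
    rw [Points.ofPt_eq_map_ofScheme, Points.ofScheme_toScheme, hz1]
  have hpiece : ∀ l, ∃ (Yl Zl : Over S) (fY : (yon S).obj Yl ⟶ Y) (i : Yl ⟶ Wl l) (fZ : (yon S).obj Zl ⟶ Z)
      (j : Zl ⟶ Wl l), IsPullback fY ((yon S).map i) a (mW l) ∧ IsPullback fZ ((yon S).map j) b (mW l) ∧
      IsUnion i.left j.left := fun l => by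
    let i := ha'.rep.snd (mW l)
    let j := hb'.rep.snd (mW l)
    refine ⟨_, _, _, i, _, j, ha'.rep.isPullback (mW l), hb'.rep.isPullback (mW l), ?_⟩
    have : IsAffine (U' l).left := l.2
    have : IsClosedImmersion (sl l).left := hw.property_snd (φ l)
    have : IsAffine (Wl l).left := isAffine_of_isAffineHom (sl l).left
    have hci : IsClosedImmersion i.left := ha'.property_snd (mW l)
    have hcj : IsClosedImmersion j.left := hb'.property_snd (mW l)
    refine ⟨inferInstance, hci, hcj, ?_⟩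
    let E : EtOver X := EtOver.mk (φ l) (hφ l)
    have hE : IsAffine E.obj.left.left := l.2
    have e1 : I.ideal E hE = RingHom.ker ((i.left.appTop.hom).comp (sl l).left.appTop.hom) := by
      have sq := (ha'.rep.isPullback (mW l)).paste_vert (sqW l)
      rw [← Functor.map_comp, ha] at sq
      rw [← hyI, ker_of_isPullback hy.1 E hE (s := i ≫ sl l) sq, Over.comp_left, Scheme.Hom.comp_appTop,
        CommRingCat.hom_comp]
    have e2 : J.ideal E hE = RingHom.ker ((j.left.appTop.hom).comp (sl l).left.appTop.hom) := by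
      have sq := (hb'.rep.isPullback (mW l)).paste_vert (sqW l)
      rw [← Functor.map_comp, hb] at sq
      rw [← hzJ, ker_of_isPullback hz.1 E hE (s := j ≫ sl l) sq, Over.comp_left, Scheme.Hom.comp_appTop,
        CommRingCat.hom_comp]
    have e3 : K.ideal E hE = RingHom.ker (sl l).left.appTop.hom := by
      rw [← hwK, ker_of_isPullback hw.1 E hE (s := sl l) (sqW l)]
    rw [eq_bot_iff]
    rintro r ⟨hr1, hr2⟩
    obtain ⟨s, rfl⟩ := surjective_appTop (sl l).left r
    have : s ∈ K.ideal E hE := (hK E hE).ge ⟨e1.ge hr1, e2.ge hr2⟩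
    exact (Submodule.mem_bot _).2 (e3.le this)
  choose Yl Zl fY i fZ j sqY sqZ hu using hpiece
  exact existsUnique_desc_of_cover hT hW hY hZ Wl mW hmW hcov Yl Zl fY i fZ j sqY sqZ hu f g hfg'

end Groth.Agent.SpUnion5
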