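import Groth.Agent.SpUnion5.Main
import Groth.Agent.AlgSpPts.OpenSub
import Groth.Agent.AlgSpPts.Univ
import Groth.Agent.AlgSpLib.WeakAssUnit

/-!
# A reduced space covered by two affine closed subspaces is affine
-/

set_option backward.isDefEq.respectTransparency false
set_option backward.isDefEq.respectTransparency.types false
set_option autoImplicit false
set_option linter.style.haveILetI false

universe u

open CategoryTheory CategoryTheory.Limits AlgebraicGeometry Opposite AlgSp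
open Groth.Agent.AlgSpLib Groth.Agent.AlgSpPts Groth.Agent.AlgSpDec

namespace Groth.Agent.SpUnion5

/-- Two closed subschemes covering a reduced affine scheme form a union. -/
theorem isUnion_of_reduced {W Y Z : Scheme.{u}} [IsAffine W] [IsReduced W] (i : Y ⟶ W) (j : Z ⟶ W)
    [IsClosedImmersion i] [IsClosedImmersion j] (h : ∀ w, w ∈ Set.range i.base ∨ w ∈ Set.range j.base) :
    IsUnion i j := by
  refine ⟨inferInstance, inferInstance, inferInstance, eq_bot_iff.2 fun a ha => ?_⟩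
  obtain ⟨hi, hj⟩ := Submodule.mem_inf.1 ha
  rw [Ideal.mem_bot, ← basicOpen_eq_bot_iff]
  refine TopologicalSpace.Opens.ext (Set.eq_empty_of_forall_notMem fun w hw => ?_)
  have key : ∀ {T : Scheme.{u}} (k : T ⟶ W), k.appTop.hom a = 0 → ∀ t, k.base t ∉ W.basicOpen a := fun {T} k hk t ht => by
    have h1 : t ∈ k ⁻¹ᵁ W.basicOpen a := ht
    rw [Scheme.preimage_basicOpen] at h1
    change t ∈ T.basicOpen (k.appTop.hom a) at h1
    rw [hk, Scheme.basicOpen_zero] at h1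
    exact h1
  rcases h w with ⟨y, rfl⟩ | ⟨z, rfl⟩
  · exact key i hi y hw
  · exact key j hj z hw

variable {S : Scheme.{u}} {O : Sp S} {P₁ P₂ R : Over S}

theorem exists_affine_pushout {S₀ : S.Opens} (hS₀ : IsAffineOpen S₀) {c : R ⟶ P₁} {d : R ⟶ P₂}
    [IsAffine P₁.left] [IsAffine P₂.left] (hc : IsClosedImmersion c.left) (hd : IsClosedImmersion d.left)
    (h₁ : Set.range P₁.hom.base ⊆ S₀) (h₂ : Set.range P₂.hom.base ⊆ S₀) :
    ∃ (W : Over S) (i : P₁ ⟶ W) (j : P₂ ⟶ W), IsUnion i.left j.left ∧ c ≫ i = d ≫ j ∧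
      ∀ (T' : Over S) (a : T' ⟶ P₁) (b : T' ⟶ P₂), a ≫ i = b ≫ j → ∃ e : T' ⟶ R, e ≫ c = a ∧ e ≫ d = b := by
  have : IsAffine R.left := isAffine_of_isAffineHom c.left
  let B : Subring (Γ(P₁.left, ⊤) × Γ(P₂.left, ⊤)) :=
    RingHom.eqLocus (c.left.appTop.hom.comp (RingHom.fst _ _)) (d.left.appTop.hom.comp (RingHom.snd _ _))
  let π₁ : CommRingCat.of B ⟶ Γ(P₁.left, ⊤) := CommRingCat.ofHom ((RingHom.fst _ _).comp B.subtype)
  let π₂ : CommRingCat.of B ⟶ Γ(P₂.left, ⊤) := CommRingCat.ofHom ((RingHom.snd _ _).comp B.subtype)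
  have hs₁ : Function.Surjective π₁.hom := fun s => by
    obtain ⟨t, ht⟩ := surjective_appTop d.left (c.left.appTop.hom s)
    exact ⟨⟨(s, t), ht.symm⟩, rfl⟩
  have hs₂ : Function.Surjective π₂.hom := fun t => by
    obtain ⟨s, hs⟩ := surjective_appTop c.left (d.left.appTop.hom t)
    exact ⟨⟨(s, t), hs⟩, rfl⟩
  let W₀ := Spec (CommRingCat.of B)
  let i₀ : P₁.left ⟶ W₀ := P₁.left.isoSpec.hom ≫ Spec.map π₁
  let j₀ : P₂.left ⟶ W₀ := P₂.left.isoSpec.hom ≫ Spec.map π₂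
  have : IsClosedImmersion (Spec.map π₁) := IsClosedImmersion.spec_of_surjective _ hs₁
  have : IsClosedImmersion (Spec.map π₂) := IsClosedImmersion.spec_of_surjective _ hs₂
  let ε := (Scheme.ΓSpecIso (CommRingCat.of B)).hom
  have e₁ : ∀ x, i₀.appTop.hom x = π₁.hom (ε.hom x) := fun x => by
    have : i₀.appTop = ε ≫ π₁ := by simp [i₀, ε, Scheme.isoSpec]; exact Scheme.ΓSpecIso_naturality π₁
    rw [this]; rfl
  have e₂ : ∀ x, j₀.appTop.hom x = π₂.hom (ε.hom x) := fun x => by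
    have : j₀.appTop = ε ≫ π₂ := by simp [j₀, ε, Scheme.isoSpec]; exact Scheme.ΓSpecIso_naturality π₂
    rw [this]; rfl
  have hu : IsUnion i₀ j₀ := by
    refine ⟨inferInstance, inferInstance, inferInstance, eq_bot_iff.2 fun x hx => ?_⟩
    obtain ⟨h1, h2⟩ := Submodule.mem_inf.1 hx
    rw [RingHom.mem_ker, e₁] at h1
    rw [RingHom.mem_ker, e₂] at h2
    rw [Ideal.mem_bot]
    refine (ConcreteCategory.bijective_of_isIso ε).1 ?_
    show ε.hom x = ε.hom 0
    rw [map_zero]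
    exact Subtype.ext (Prod.ext h1 h2)
  obtain ⟨A, a, b, sqA⟩ : ∃ (A : Scheme.{u}) (a : A ⟶ P₁.left) (b : A ⟶ P₂.left), IsPullback a b i₀ j₀ :=
    ⟨_, _, _, IsPullback.of_hasPullback i₀ j₀⟩
  have hfac : ∀ (T' : Scheme.{u}) (x : T' ⟶ P₁.left) (y : T' ⟶ P₂.left), x ≫ i₀ = y ≫ j₀ →
      ∃ e : T' ⟶ R.left, e ≫ c.left = x ∧ e ≫ d.left = y := by
    intro T' x y hxy
    have hB : ∀ s : B, x.appTop.hom s.1.1 = y.appTop.hom s.1.2 := fun s => by
      obtain ⟨σ, rfl⟩ := (ConcreteCategory.bijective_of_isIso ε).2 s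
      have h := congrArg (fun k => k.appTop.hom σ) hxy
      simp only [Scheme.Hom.comp_appTop, CommRingCat.hom_comp, RingHom.comp_apply] at h
      rw [e₁, e₂] at h
      exact h
    have hk : RingHom.ker c.left.appTop.hom ≤ RingHom.ker x.appTop.hom := fun s hs => by
      rw [RingHom.mem_ker] at hs ⊢
      rw [show x.appTop.hom s = y.appTop.hom 0 from hB ⟨(s, 0), by show c.left.appTop.hom s = d.left.appTop.hom 0; rw [hs, map_zero]⟩,
        map_zero]
    let φ : Γ(R.left, ⊤) ⟶ Γ(T', ⊤) :=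
      CommRingCat.ofHom (c.left.appTop.hom.liftOfSurjective (surjective_appTop c.left) ⟨_, hk⟩)
    have hφ : ∀ s, φ.hom (c.left.appTop.hom s) = x.appTop.hom s := fun s =>
      RingHom.liftOfRightInverse_comp_apply _ _ (Function.rightInverse_surjInv (surjective_appTop c.left)) ⟨_, hk⟩ s
    obtain ⟨e, he⟩ : ∃ e : T' ⟶ R.left, e.appTop = φ :=
      ⟨T'.toSpecΓ ≫ Spec.map φ ≫ R.left.isoSpec.inv, by simp [Scheme.isoSpec]⟩
    refine ⟨e, ext_of_isAffine ?_, ext_of_isAffine ?_⟩ <;> ext s <;>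
      simp only [Scheme.Hom.comp_appTop, he, CommRingCat.hom_comp, RingHom.comp_apply]
    · exact hφ s
    · obtain ⟨⟨st, hst⟩, hs⟩ := hs₂ s
      subst hs
      change φ.hom (d.left.appTop.hom st.2) = y.appTop.hom st.2
      rw [← show c.left.appTop.hom st.1 = d.left.appTop.hom st.2 from hst, hφ]
      exact hB ⟨st, hst⟩
  obtain ⟨e, he₁, he₂⟩ := hfac A a b sqA.w
  have : IsAffine S₀.toScheme := hS₀
  have hr₁ : Set.range P₁.hom.base ⊆ Set.range S₀.ι.base := by rw [Scheme.Opens.range_ι]; exact h₁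
  have hr₂ : Set.range P₂.hom.base ⊆ Set.range S₀.ι.base := by rw [Scheme.Opens.range_ι]; exact h₂
  obtain ⟨m, hm₁, hm₂⟩ := hu.exists_desc sqA (IsOpenImmersion.lift S₀.ι P₁.hom hr₁)
    (IsOpenImmersion.lift S₀.ι P₂.hom hr₂) (by
      rw [← cancel_mono S₀.ι, Category.assoc, Category.assoc, IsOpenImmersion.lift_fac, IsOpenImmersion.lift_fac,
        ← he₁, ← he₂, Category.assoc, Category.assoc, Over.w, Over.w])
  let W : Over S := Over.mk (m ≫ S₀.ι)
  refine ⟨W, Over.homMk i₀ (by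
    show i₀ ≫ m ≫ S₀.ι = _
    rw [← Category.assoc, hm₁, IsOpenImmersion.lift_fac]), Over.homMk j₀ (by
    show j₀ ≫ m ≫ S₀.ι = _
    rw [← Category.assoc, hm₂, IsOpenImmersion.lift_fac]), hu, Over.OverMorphism.ext ?_, fun T' x y hxy => ?_⟩
  · show c.left ≫ P₁.left.isoSpec.hom ≫ Spec.map π₁ = d.left ≫ P₂.left.isoSpec.hom ≫ Spec.map π₂
    rw [← Scheme.isoSpec_hom_naturality_assoc, ← Scheme.isoSpec_hom_naturality_assoc, ← Spec.map_comp, ← Spec.map_comp]
    congr 2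
    ext s
    exact s.2
  obtain ⟨k, hk₁, hk₂⟩ := hfac T'.left x.left y.left (congrArg CommaMorphism.left hxy)
  exact ⟨Over.homMk k (by rw [← Over.w c, ← Category.assoc, hk₁, Over.w]),
    Over.OverMorphism.ext hk₁, Over.OverMorphism.ext hk₂⟩

theorem exists_iso_of_closed_cover (hO : IsAlgSpace O) (hred : IsReducedSp O) [IsAffine P₁.left] [IsAffine P₂.left]
    {a : (yon S).obj P₁ ⟶ O} {b : (yon S).obj P₂ ⟶ O} (ha : RepWith @IsClosedImmersion a)
    (hb : RepWith @IsClosedImmersion b) (hcov : Set.range (Points.map a) ∪ Set.range (Points.map b) = Set.univ)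
    {S₀ : S.Opens} (hS₀ : IsAffineOpen S₀) (h₁ : Set.range P₁.hom.base ⊆ S₀) (h₂ : Set.range P₂.hom.base ⊆ S₀) :
    ∃ W : Over S, Nonempty ((yon S).obj W ≅ O) := by
  let R := ha.rep.pullback b
  let c : R ⟶ P₁ := ha.rep.fst' b
  let d : R ⟶ P₂ := ha.rep.snd b
  have sqR : IsPullback ((yon S).map c) ((yon S).map d) a b := ha.rep.isPullback' b
  have hd : IsClosedImmersion d.left := ha.property_snd b
  have hc : IsClosedImmersion c.left := hb.property _ _ _ sqR.flip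
  obtain ⟨W, i, j, hu, hci, hfac⟩ := exists_affine_pushout hS₀ hc hd h₁ h₂
  obtain ⟨h, hi, hj⟩ := exists_desc_scheme hO hu (f := a) (g := b) fun T' x y hxy => by
    obtain ⟨e, rfl, rfl⟩ := hfac T' x y hxy
    rw [Functor.map_comp_assoc, Functor.map_comp_assoc, sqR.w]
  obtain ⟨U, φ, hφ, hφs⟩ := hO.atlas
  let ι := {V : U.left.Opens // IsAffineOpen V}
  let U' : ι → Over S := fun l => Over.mk (l.1.ι ≫ U.hom)
  let m : ∀ l, (yon S).obj (U' l) ⟶ O := fun l => (yon S).map (Over.homMk l.1.ι rfl) ≫ φ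
  have hm : ∀ l, RepWith @Etale (m l) := fun l => repWith_comp
    ((repWith_yon_map_iff @Etale _).2 (inferInstanceAs (Etale l.1.ι))) hφ
  have hmc : ∀ x, ∃ l t, Points.ofPt (m l) t = x := fun x => by
    obtain ⟨t, ht⟩ := surjective_ofPt hφs x
    obtain ⟨V, hV, htV, -⟩ := exists_isAffineOpen_mem_and_subset (U := (⊤ : U.left.Opens))
      (TopologicalSpace.Opens.mem_top t)
    exact ⟨⟨V, hV⟩, (⟨t, htV⟩ : V.toScheme),
      (ofPt_comp (Over.homMk V.ι rfl : U' ⟨V, hV⟩ ⟶ U) φ (⟨t, htV⟩ : V.toScheme)).trans ht⟩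
  have hul : ∀ l, IsUnion (ha.rep.snd (m l)).left (hb.rep.snd (m l)).left := fun l => by
    have : IsAffine (U' l).left := l.2
    have : IsReduced (U' l).left := WeakAssUnit.isReduced_chart hred (m l) (hm l)
    have : IsClosedImmersion (ha.rep.snd (m l)).left := ha.property_snd (m l)
    have : IsClosedImmersion (hb.rep.snd (m l)).left := hb.property_snd (m l)
    refine isUnion_of_reduced _ _ fun t => ?_
    have hl : ∀ {P : Over S} {q : (yon S).obj P ⟶ O} (hq : RepWith @IsClosedImmersion q),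
        Points.ofPt (m l) t ∈ Set.range (Points.map q) → t ∈ Set.range (hq.rep.snd (m l)).left.base := fun {P q} hq hx => by
      obtain ⟨x, hx⟩ := hx
      obtain ⟨v, -, hv⟩ := AlgSpPts.exists_lift (hq.rep.isPullback (m l)) hx
      exact ⟨v, hv⟩
    rcases (hcov.ge (Set.mem_univ (Points.ofPt (m l) t))) with hx | hx
    · exact Or.inl (hl ha hx)
    · exact Or.inr (hl hb hx)
  have hdesc : ∀ {T : Sp S} (hT : IsAlgSpace T) (f : (yon S).obj P₁ ⟶ T) (g : (yon S).obj P₂ ⟶ T),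
      (yon S).map c ≫ f = (yon S).map d ≫ g → ∃! n : O ⟶ T, a ≫ n = f ∧ b ≫ n = g := fun {T} hT f g hfg =>
    existsUnique_desc_of_cover hT hO (IsAlgSpace.yon_obj _) (IsAlgSpace.yon_obj _) U' m hm hmc
      (fun l => ha.rep.pullback (m l)) (fun l => hb.rep.pullback (m l)) (fun l => ha.rep.fst (m l))
      (fun l => ha.rep.snd (m l)) (fun l => hb.rep.fst (m l)) (fun l => hb.rep.snd (m l))
      (fun l => ha.rep.isPullback (m l)) (fun l => hb.rep.isPullback (m l)) hul f g fun T' y z hyz => by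
        rw [← sqR.lift_fst y z hyz, Category.assoc, hfg, ← Category.assoc, sqR.lift_snd]
  obtain ⟨g, ⟨hga, hgb⟩, -⟩ := hdesc (IsAlgSpace.yon_obj W) ((yon S).map i) ((yon S).map j)
    (by rw [← Functor.map_comp, ← Functor.map_comp, hci])
  refine ⟨W, ⟨⟨h, g, ?_, ?_⟩⟩⟩
  · refine uniq_affine (IsAlgSpace.yon_obj W) hu _ _ ?_ ?_
    · rw [← Category.assoc, hi, hga, Category.comp_id]
    · rw [← Category.assoc, hj, hgb, Category.comp_id]
  · obtain ⟨n, -, hn⟩ := hdesc hO a b sqR.w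
    exact (hn (g ≫ h) ⟨by rw [← Category.assoc, hga, hi], by rw [← Category.assoc, hgb, hj]⟩).trans
      (hn (𝟙 _) ⟨Category.comp_id _, Category.comp_id _⟩).symm

end Groth.Agent.SpUnion5
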