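import Mathlib.AlgebraicGeometry.Morphisms.Flat
import Mathlib.AlgebraicGeometry.Morphisms.ClosedImmersion
import Mathlib.RingTheory.Flat.Basic

/-!
# Two closed subschemes of an affine scheme whose ideals meet in zero
-/

set_option backward.isDefEq.respectTransparency false
set_option backward.isDefEq.respectTransparency.types false
set_option autoImplicit false

universe u

open CategoryTheory CategoryTheory.Limits AlgebraicGeometry Opposite

namespace Groth.Agent.SpUnion5

/-- The kernel of the pushout of a surjective ring map is generated by the kernel. -/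
theorem ker_pushout {A B C D : CommRingCat.{u}} {f : A ⟶ B} {g : A ⟶ C} {inl : B ⟶ D} {inr : C ⟶ D}
    (sq : IsPushout f g inl inr) (hf : Function.Surjective f.hom) :
    RingHom.ker inr.hom = (RingHom.ker f.hom).map g.hom := by
  refine le_antisymm (fun c hc => ?_) ?_
  · let K := (RingHom.ker f.hom).map g.hom
    let q : C ⟶ CommRingCat.of (C ⧸ K) := CommRingCat.ofHom (Ideal.Quotient.mk K)
    have hk : RingHom.ker f.hom ≤ RingHom.ker ((Ideal.Quotient.mk K).comp g.hom) := fun a ha => by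
      rw [RingHom.mem_ker, RingHom.comp_apply, Ideal.Quotient.eq_zero_iff_mem]
      exact Ideal.mem_map_of_mem _ ha
    let p : B ⟶ CommRingCat.of (C ⧸ K) := CommRingCat.ofHom (f.hom.liftOfSurjective hf ⟨_, hk⟩)
    have w : f ≫ p = g ≫ q := by
      ext a
      exact f.hom.liftOfRightInverse_comp_apply _ (Function.rightInverse_surjInv hf) ⟨_, hk⟩ a
    have h := congrArg (fun k => k.hom c) (sq.inr_desc p q w)
    rw [RingHom.mem_ker] at hc
    change (sq.desc p q w).hom (inr.hom c) = Ideal.Quotient.mk K c at h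
    rw [hc, map_zero] at h
    exact Ideal.Quotient.eq_zero_iff_mem.1 h.symm
  · rw [Ideal.map_le_iff_le_comap]
    intro a ha
    rw [RingHom.mem_ker] at ha
    rw [Ideal.mem_comap, RingHom.mem_ker, ← RingHom.comp_apply, ← CommRingCat.hom_comp, ← sq.w]
    change inl.hom (f.hom a) = 0
    rw [ha, map_zero]

/-- Flat base change preserves a zero intersection of two ideals. -/
theorem inf_map_eq_bot {A B : Type u} [CommRing A] [CommRing B] [Algebra A B] [Module.Flat A B]
    {I J : Ideal A} (h : I ⊓ J = ⊥) :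
    I.map (algebraMap A B) ⊓ J.map (algebraMap A B) = ⊥ := by
  let φ : A →ₗ[A] (A ⧸ I) × (A ⧸ J) := (Submodule.mkQ I).prod (Submodule.mkQ J)
  have hφ : Function.Injective φ := by
    rw [injective_iff_map_eq_zero]
    intro a ha
    have h1 : (Submodule.mkQ I a) = 0 := congrArg Prod.fst ha
    have h2 : (Submodule.mkQ J a) = 0 := congrArg Prod.snd ha
    rw [Submodule.mkQ_apply, Submodule.Quotient.mk_eq_zero] at h1 h2
    exact (Submodule.mem_bot A).1 (h ▸ ⟨h1, h2⟩)
  rw [eq_bot_iff]
  rintro b ⟨hb1, hb2⟩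
  have hz : ∀ (K : Ideal A), b ∈ K.map (algebraMap A B) → b ⊗ₜ[A] (1 : A ⧸ K) = 0 := fun K hb => by
    refine Submodule.span_induction (p := fun c _ => c ⊗ₜ[A] (1 : A ⧸ K) = 0) ?_ ?_ ?_ ?_ hb
    · rintro _ ⟨a, ha, rfl⟩
      rw [Algebra.algebraMap_eq_smul_one, TensorProduct.smul_tmul, Algebra.smul_def, mul_one,
        Ideal.Quotient.algebraMap_eq, Ideal.Quotient.eq_zero_iff_mem.2 ha, TensorProduct.tmul_zero]
    · exact TensorProduct.zero_tmul _ _
    · intro x y _ _ hx hy
      rw [TensorProduct.add_tmul, hx, hy, add_zero]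
    · intro r x _ hx
      rw [← TensorProduct.smul_tmul', hx, smul_zero]
  have hinj : Function.Injective (φ.lTensor B) := Module.Flat.lTensor_preserves_injective_linearMap φ hφ
  have : b ⊗ₜ[A] (1 : A) = 0 := by
    apply hinj
    rw [map_zero, LinearMap.lTensor_tmul]
    apply (TensorProduct.prodRight A A B (A ⧸ I) (A ⧸ J)).injective
    rw [map_zero]
    exact Prod.ext (hz I hb1) (hz J hb2)
  have h' := congrArg (TensorProduct.rid A B) this
  rw [TensorProduct.rid_tmul, one_smul, map_zero] at h'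
  exact (Submodule.mem_bot B).2 h'

variable {W Y Z : Scheme.{u}}

theorem injective_of_mono {X U : Scheme.{u}} (f : X ⟶ U) [Mono f] : Function.Injective f.base := fun x y h => by
  have := Scheme.Pullback.exists_preimage_pullback (f := f) (g := f) x y h
  obtain ⟨z, h1, h2⟩ := this
  rw [← h1, ← h2, fst_eq_snd_of_mono_eq]

/-- Two closed immersions into an affine scheme whose ideals meet in zero. -/
structure IsUnion (i : Y ⟶ W) (j : Z ⟶ W) : Prop where
  affine : IsAffine W
  clI : IsClosedImmersion i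
  clJ : IsClosedImmersion j
  inf : RingHom.ker i.appTop.hom ⊓ RingHom.ker j.appTop.hom = ⊥

theorem surjective_appTop (i : Y ⟶ W) [IsClosedImmersion i] [IsAffine W] : Function.Surjective i.appTop.hom :=
  i.app_surjective ⊤ (isAffineOpen_top W)

theorem ker_appTop_pullback [IsAffine W] (i : Y ⟶ W) [IsClosedImmersion i] {P : Scheme.{u}} [IsAffine P] (e : P ⟶ W)
    {YP : Scheme.{u}} {fst : YP ⟶ Y} {snd : YP ⟶ P} (sq : IsPullback fst snd i e) :
    RingHom.ker snd.appTop.hom = (RingHom.ker i.appTop.hom).map e.appTop.hom := by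
  have : IsAffine Y := isAffine_of_isAffineHom i
  exact ker_pushout (isPushout_appTop_of_isPullback sq) (surjective_appTop i)

theorem IsUnion.pullback {i : Y ⟶ W} {j : Z ⟶ W} (h : IsUnion i j) {P : Scheme.{u}} [IsAffine P] (e : P ⟶ W)
    [Flat e] {YP ZP : Scheme.{u}} {f₁ : YP ⟶ Y} {s₁ : YP ⟶ P} {f₂ : ZP ⟶ Z} {s₂ : ZP ⟶ P}
    (sq₁ : IsPullback f₁ s₁ i e) (sq₂ : IsPullback f₂ s₂ j e) : IsUnion s₁ s₂ := by
  have := h.affine
  have := h.clI
  have := h.clJ
  refine ⟨inferInstance, MorphismProperty.of_isPullback (P := @IsClosedImmersion) sq₁ ‹_›,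
    MorphismProperty.of_isPullback (P := @IsClosedImmersion) sq₂ ‹_›, ?_⟩
  rw [ker_appTop_pullback i e sq₁, ker_appTop_pullback j e sq₂]
  have hf : e.appTop.hom.Flat := HasRingHomProperty.appTop (P := @Flat) e ‹_›
  algebraize [e.appTop.hom]
  exact inf_map_eq_bot h.inf

theorem IsUnion.eq_zero {i : Y ⟶ W} {j : Z ⟶ W} (h : IsUnion i j) {a : Γ(W, ⊤)} (ha : i.appTop.hom a = 0)
    (hb : j.appTop.hom a = 0) : a = 0 :=
  (Submodule.mem_bot _).1 (h.inf.le (Submodule.mem_inf.2 ⟨ha, hb⟩))

theorem IsUnion.mem_range {i : Y ⟶ W} {j : Z ⟶ W} (h : IsUnion i j) (w : ↥W) :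
    w ∈ Set.range i.base ∨ w ∈ Set.range j.base := by
  have := h.affine
  have := h.clI
  have := h.clJ
  have key : ∀ {T : Scheme.{u}} (k : T ⟶ W) [IsClosedImmersion k],
      Set.range k.base = W.zeroLocus (U := ⊤) (RingHom.ker k.appTop.hom : Set Γ(W, ⊤)) := fun {T} k _ => by
    have h1 : (k.ker.support : Set ↥W) = closure (Set.range k.base) := Scheme.Hom.support_ker k
    rw [k.isClosedEmbedding.isClosed_range.closure_eq] at h1
    rw [← h1]
    have h2 := Scheme.IdealSheafData.coe_support_inter k.ker ⟨⊤, isAffineOpen_top W⟩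
    simp only [Scheme.Hom.ker_apply] at h2
    simpa using h2
  rw [key i, key j, ← Set.mem_union, Scheme.zeroLocus_def, Scheme.zeroLocus_def]
  by_contra hw
  simp only [Set.mem_union, Set.mem_iInter, not_or, not_forall] at hw
  obtain ⟨⟨a, ha, haw⟩, b, hb, hbw⟩ := hw
  have h0 : a * b = 0 := h.eq_zero (Ideal.mul_mem_right b (RingHom.ker i.appTop.hom) ha)
    (Ideal.mul_mem_left (RingHom.ker j.appTop.hom) a hb)
  have : w ∈ W.basicOpen (a * b) := by
    rw [Scheme.basicOpen_mul]
    exact ⟨not_not.1 haw, not_not.1 hbw⟩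
  rw [h0, Scheme.basicOpen_zero] at this
  exact this

/-- A monomorphism through which both closed subschemes factor is an isomorphism. -/
theorem IsUnion.isIso_of_mono {i : Y ⟶ W} {j : Z ⟶ W} (h : IsUnion i j) {E : Scheme.{u}} (p : E ⟶ W) [Mono p]
    (qi : Y ⟶ E) (qj : Z ⟶ E) (hi : qi ≫ p = i) (hj : qj ≫ p = j) : IsIso p := by
  have := h.affine
  have := h.clI
  have := h.clJ
  have hsec : ∀ {T : Scheme.{u}} (k : T ⟶ W) (q : T ⟶ E), q ≫ p = k → ∀ t, p.base (q.base t) = k.base t :=
    fun k q hq t => by rw [← Scheme.Hom.comp_apply, hq]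
  have hinj : Function.Injective p.base := injective_of_mono p
  have hcl : IsClosedMap p.base := fun C hC => by
    have : p.base '' C = i.base '' (qi.base ⁻¹' C) ∪ j.base '' (qj.base ⁻¹' C) := by
      ext w
      constructor
      · rintro ⟨c, hc, rfl⟩
        rcases h.mem_range (p.base c) with ⟨y, hy⟩ | ⟨z, hz⟩
        · refine Or.inl ⟨y, ?_, hy⟩
          have : qi.base y = c := hinj ((hsec i qi hi y).trans hy)
          rwa [Set.mem_preimage, this]
        · refine Or.inr ⟨z, ?_, hz⟩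
          have : qj.base z = c := hinj ((hsec j qj hj z).trans hz)
          rwa [Set.mem_preimage, this]
      · rintro (⟨y, hy, rfl⟩ | ⟨z, hz, rfl⟩)
        · exact ⟨_, hy, hsec i qi hi y⟩
        · exact ⟨_, hz, hsec j qj hj z⟩
    rw [this]
    exact (i.isClosedEmbedding.isClosedMap _ (hC.preimage qi.continuous)).union
      (j.isClosedEmbedding.isClosedMap _ (hC.preimage qj.continuous))
  have hce : Topology.IsClosedEmbedding p.base :=
    Topology.IsClosedEmbedding.of_continuous_injective_isClosedMap p.continuous hinj hcl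
  have : IsAffineHom p := isAffineHom_of_isInducing p hce.isInducing hce.isClosed_range
  have : IsAffine E := isAffine_of_isAffineHom p
  have : IsAffine Y := isAffine_of_isAffineHom i
  have : IsAffine Z := isAffine_of_isAffineHom j
  let φ := p.appTop
  have hepi : ∀ {D : Type u} [CommRing D] (u v : Γ(E, ⊤) →+* D), u.comp φ.hom = v.comp φ.hom → u = v := by
    intro D _ u v huv
    have h1 : Spec.map (CommRingCat.ofHom u) ≫ Spec.map φ = Spec.map (CommRingCat.ofHom v) ≫ Spec.map φ := by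
      rw [← Spec.map_comp, ← Spec.map_comp]
      exact congrArg Spec.map (CommRingCat.hom_ext huv)
    have h2 : ∀ k : Spec (CommRingCat.of D) ⟶ Spec Γ(E, ⊤), k ≫ Spec.map φ = (k ≫ E.isoSpec.inv) ≫ p ≫ W.isoSpec.hom :=
      fun k => by rw [Category.assoc, ← Scheme.isoSpec_inv_naturality_assoc, Iso.inv_hom_id, Category.comp_id]
    rw [h2, h2, ← Category.assoc, ← Category.assoc, cancel_mono, cancel_mono, cancel_mono] at h1
    exact congrArg CommRingCat.Hom.hom (Spec.map_injective h1)
  have hgen : ∀ {T : Scheme.{u}} (k : T ⟶ W) [IsClosedImmersion k] (q : T ⟶ E), q ≫ p = k → ∀ b : Γ(E, ⊤),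
      ∃ a : Γ(W, ⊤), b - φ.hom a ∈ (RingHom.ker k.appTop.hom).map φ.hom := fun {T} k _ q hq b => by
    obtain ⟨a, ha⟩ := surjective_appTop k (q.appTop.hom b)
    refine ⟨a, ?_⟩
    let K := (RingHom.ker k.appTop.hom).map φ.hom
    have hk : RingHom.ker k.appTop.hom ≤ RingHom.ker ((Ideal.Quotient.mk K).comp φ.hom) := fun x hx => by
      rw [RingHom.mem_ker, RingHom.comp_apply, Ideal.Quotient.eq_zero_iff_mem]
      exact Ideal.mem_map_of_mem _ hx
    let σ := k.appTop.hom.liftOfSurjective (surjective_appTop k) ⟨_, hk⟩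
    have hσ : ∀ x, σ (k.appTop.hom x) = Ideal.Quotient.mk K (φ.hom x) := fun x =>
      RingHom.liftOfRightInverse_comp_apply _ _ _ ⟨_, hk⟩ x
    have he : σ.comp q.appTop.hom = Ideal.Quotient.mk K := hepi _ _ (RingHom.ext fun x => by
      rw [RingHom.comp_apply, RingHom.comp_apply, RingHom.comp_apply, ← hσ]
      exact congrArg σ (congrArg (fun m => m.appTop.hom x) hq))
    rw [← Ideal.Quotient.eq_zero_iff_mem, map_sub, ← hσ, ha, ← RingHom.comp_apply, he, sub_self]
  let I := RingHom.ker i.appTop.hom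
  let J := RingHom.ker j.appTop.hom
  have hIJ : (I * J).map φ.hom = ⊥ := by
    rw [eq_bot_iff.2 (h.inf ▸ Ideal.mul_le_inf : I * J ≤ ⊥), Ideal.map_bot]
  have hsurj : Function.Surjective φ.hom := fun b => by
    obtain ⟨a, ha⟩ := hgen i qi hi b
    suffices ∀ x ∈ I.map φ.hom, x ∈ Set.range φ.hom by
      obtain ⟨a', ha'⟩ := this _ ha
      exact ⟨a + a', by rw [map_add, ha']; ring⟩
    intro x hx
    refine Submodule.span_induction (p := fun x _ => ∀ c, c * x ∈ Set.range φ.hom) ?_ ?_ ?_ ?_ hx 1 |> fun h => by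
      rwa [one_mul] at h
    · rintro _ ⟨s, hs, rfl⟩ c
      obtain ⟨a', ha'⟩ := hgen j qj hj c
      have h0 : (c - φ.hom a') * φ.hom s = 0 := (Submodule.mem_bot _).1 (hIJ.le (by
        rw [Ideal.map_mul, mul_comm (I.map φ.hom)]
        exact Ideal.mul_mem_mul ha' (Ideal.mem_map_of_mem _ hs)))
      exact ⟨a' * s, by rw [map_mul]; linear_combination -h0⟩
    · exact fun c => ⟨0, by rw [map_zero, mul_zero]⟩
    · intro x y _ _ hx hy c
      obtain ⟨u, hu⟩ := hx c
      obtain ⟨v, hv⟩ := hy c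
      exact ⟨u + v, by rw [map_add, hu, hv, mul_add]⟩
    · intro r x _ hx c
      rw [smul_eq_mul, ← mul_assoc]
      exact hx _
  have hbij : Function.Bijective φ.hom := ⟨by
    rw [injective_iff_map_eq_zero]
    intro a ha
    refine h.eq_zero ?_ ?_
    · show i.appTop.hom a = 0
      rw [← hi, Scheme.Hom.comp_appTop, CommRingCat.hom_comp, RingHom.comp_apply, show p.appTop.hom a = 0 from ha,
        map_zero]
    · show j.appTop.hom a = 0
      rw [← hj, Scheme.Hom.comp_appTop, CommRingCat.hom_comp, RingHom.comp_apply, show p.appTop.hom a = 0 from ha,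
        map_zero], hsurj⟩
  have : IsIso φ := (ConcreteCategory.isIso_iff_bijective φ).2 hbij
  have : IsIso (p ≫ W.isoSpec.hom) := by
    rw [← Scheme.isoSpec_hom_naturality]; infer_instance
  exact IsIso.of_isIso_comp_right p W.isoSpec.hom

/-- Maps out of an affine scheme agreeing on both closed subschemes are equal. -/
theorem IsUnion.hom_ext {i : Y ⟶ W} {j : Z ⟶ W} (h : IsUnion i j) {Q : Scheme.{u}} (a b : W ⟶ Q)
    (hi : i ≫ a = i ≫ b) (hj : j ≫ a = j ≫ b) : a = b := by
  have := h.isIso_of_mono (equalizer.ι a b) (equalizer.lift i hi) (equalizer.lift j hj)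
    (equalizer.lift_ι _ _) (equalizer.lift_ι _ _)
  exact eq_of_epi_equalizer

/-- Compatible maps on the two closed subschemes to an affine scheme glue. -/
theorem IsUnion.exists_desc {i : Y ⟶ W} {j : Z ⟶ W} (h : IsUnion i j) {V : Scheme.{u}} {c : V ⟶ Y} {d : V ⟶ Z}
    (sq : IsPullback c d i j) {O : Scheme.{u}} [IsAffine O] (y : Y ⟶ O) (z : Z ⟶ O) (hyz : c ≫ y = d ≫ z) :
    ∃ m : W ⟶ O, i ≫ m = y ∧ j ≫ m = z := by
  have := h.affine
  have := h.clI
  have := h.clJ
  have : IsAffine Z := isAffine_of_isAffineHom j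
  have hex : ∀ o : Γ(O, ⊤), ∃ w : Γ(W, ⊤), i.appTop.hom w = y.appTop.hom o ∧ j.appTop.hom w = z.appTop.hom o := fun o => by
    obtain ⟨a, ha⟩ := surjective_appTop i (y.appTop.hom o)
    obtain ⟨b, hb⟩ := surjective_appTop j (z.appTop.hom o)
    have hd : d.appTop.hom (j.appTop.hom (a - b)) = 0 := by
      rw [map_sub, map_sub, sub_eq_zero, hb]
      have h1 := congrArg (fun k => k.appTop.hom a) sq.w
      have h2 := congrArg (fun k => k.appTop.hom o) hyz
      simp only [Scheme.Hom.comp_appTop, CommRingCat.hom_comp, RingHom.comp_apply] at h1 h2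
      rw [← h1, ha, h2]
    have hm : j.appTop.hom (a - b) ∈ RingHom.ker d.appTop.hom := hd
    rw [ker_appTop_pullback i j sq, Ideal.mem_map_iff_of_surjective _ (surjective_appTop j)] at hm
    obtain ⟨s, hs, hse⟩ := hm
    refine ⟨a - s, ?_, ?_⟩
    · rw [map_sub, show i.appTop.hom s = 0 from hs, sub_zero, ha]
    · rw [map_sub, hse, map_sub, hb]; ring
  choose w hw1 hw2 using hex
  have hu : ∀ v v' : Γ(W, ⊤), i.appTop.hom v = i.appTop.hom v' → j.appTop.hom v = j.appTop.hom v' → v = v' :=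
    fun v v' e1 e2 => sub_eq_zero.1 (h.eq_zero (by rw [map_sub, e1, sub_self]) (by rw [map_sub, e2, sub_self]))
  let ψ : Γ(O, ⊤) ⟶ Γ(W, ⊤) := CommRingCat.ofHom
    { toFun := w
      map_one' := hu _ _ (by rw [hw1, map_one, map_one]) (by rw [hw2, map_one, map_one])
      map_zero' := hu _ _ (by rw [hw1, map_zero, map_zero]) (by rw [hw2, map_zero, map_zero])
      map_add' := fun a b => hu _ _ (by rw [hw1, map_add, map_add, hw1, hw1]) (by rw [hw2, map_add, map_add, hw2, hw2])
      map_mul' := fun a b => hu _ _ (by rw [hw1, map_mul, map_mul, hw1, hw1]) (by rw [hw2, map_mul, map_mul, hw2, hw2]) }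
  obtain ⟨m, hm⟩ : ∃ m : W ⟶ O, m.appTop = ψ := ⟨W.isoSpec.hom ≫ Spec.map ψ ≫ O.isoSpec.inv, by
    simp [Scheme.isoSpec]⟩
  refine ⟨m, ?_, ?_⟩ <;> refine ext_of_isAffine ?_ <;> ext o <;>
    simp only [Scheme.Hom.comp_appTop, hm, CommRingCat.hom_comp, RingHom.comp_apply]
  · exact hw1 o
  · exact hw2 o

end Groth.Agent.SpUnion5
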