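import Groth.Agent.SpUnion5.Core
import Groth.Agent.EtFound.LiftEtale
import Groth.Agent.EtFound.SectionUnr
import Groth.Agent.AlgSpDec.Glue
import Groth.Agent.AlgSpLib.Rep
import Groth.Agent.AlgSpLib.Sheaf

/-!
# Maps from an affine union of two closed subschemes to an algebraic space
-/

set_option backward.isDefEq.respectTransparency false
set_option backward.isDefEq.respectTransparency.types false
set_option autoImplicit false
set_option linter.style.haveILetI false

universe u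

open CategoryTheory CategoryTheory.Limits AlgebraicGeometry Opposite AlgSp

namespace Groth.Agent.SpUnion5

variable {S : Scheme.{u}}

theorem isPullback_over {A B C D : Over S} {a : A ⟶ B} {b : A ⟶ C} {c : B ⟶ D} {d : C ⟶ D} (w : a ≫ c = b ≫ d)
    (h : IsPullback a.left b.left c.left d.left) : IsPullback a b c d :=
  IsPullback.of_map (Over.forget S) w h

theorem exists_isPullback_over {B C D : Over S} (c : B ⟶ D) (d : C ⟶ D) :
    ∃ (A : Over S) (a : A ⟶ B) (b : A ⟶ C), IsPullback a b c d ∧ IsPullback a.left b.left c.left d.left := by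
  let A : Over S := Over.mk (pullback.snd c.left d.left ≫ C.hom)
  let a : A ⟶ B := Over.homMk (pullback.fst c.left d.left)
    (show pullback.fst _ _ ≫ B.hom = pullback.snd _ _ ≫ C.hom by
      rw [← Over.w c, ← Over.w d, pullback.condition_assoc])
  let b : A ⟶ C := Over.homMk (pullback.snd c.left d.left) rfl
  exact ⟨A, a, b, isPullback_over (Over.OverMorphism.ext pullback.condition) (IsPullback.of_hasPullback _ _),
    IsPullback.of_hasPullback _ _⟩

theorem forget_isPullback {A B C D : Over S} {a : A ⟶ B} {b : A ⟶ C} {c : B ⟶ D} {d : C ⟶ D}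
    (sq : IsPullback a b c d) : IsPullback a.left b.left c.left d.left :=
  sq.map (Over.forget S)

variable {T : Sp S} (hT : IsAlgSpace T)

include hT in
theorem uniq_affine {W Y Z : Over S} {i : Y ⟶ W} {j : Z ⟶ W} (hu : IsUnion i.left j.left)
    (h h' : (yon S).obj W ⟶ T) (hi : (yon S).map i ≫ h = (yon S).map i ≫ h')
    (hj : (yon S).map j ≫ h = (yon S).map j ≫ h') : h = h' := by
  let d := hT.diag
  let z : (yon S).obj W ⟶ T ⨯ T := prod.lift h h'
  let p : d.pullback z ⟶ W := d.snd z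
  have w : d.fst z ≫ Limits.diag T = (yon S).map p ≫ z := d.w z
  have : Mono (Limits.diag T) := mono_of_mono_fac (prod.lift_fst (𝟙 T) (𝟙 T))
  have : Mono ((yon S).map p) := ⟨fun {R} a b hab => by
    apply (d.isPullback z).hom_ext
    · rw [← cancel_mono (Limits.diag T), Category.assoc, Category.assoc, w, ← Category.assoc, ← Category.assoc]
      exact congrArg (· ≫ z) hab
    · exact hab⟩
  have : Mono p := (yon S).mono_of_mono_map this
  have hl : ∀ {R : Over S} (k : R ⟶ W), (yon S).map k ≫ h = (yon S).map k ≫ h' →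
      ∃ q : R ⟶ d.pullback z, q ≫ p = k := fun k hk => by
    have hc : ((yon S).map k ≫ h) ≫ Limits.diag T = (yon S).map k ≫ z :=
      prod.hom_ext (by simp [z]) (by simp [z, hk])
    exact ⟨d.lift _ k hc, d.lift_snd _ _ _⟩
  obtain ⟨qi, hqi⟩ := hl i hi
  obtain ⟨qj, hqj⟩ := hl j hj
  have : IsIso p.left := hu.isIso_of_mono p.left qi.left qj.left
    (by rw [← Over.comp_left, hqi]) (by rw [← Over.comp_left, hqj])
  have : IsIso ((Over.forget S).map p) := this
  have : IsIso p := isIso_of_reflects_iso p (Over.forget S)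
  have h1 := w =≫ prod.fst
  have h2 := w =≫ prod.snd
  simp only [z, Category.assoc, prod.lift_fst, prod.lift_snd, Category.comp_id] at h1 h2
  exact (cancel_epi ((yon S).map p)).1 (h1.symm.trans h2)

include hT in
theorem uniq {W Y Z : Over S} {i : Y ⟶ W} {j : Z ⟶ W} (hu : IsUnion i.left j.left) {P : Over S} (e : P ⟶ W)
    [Flat e.left] (h h' : (yon S).obj P ⟶ T)
    (hag : ∀ (T' : Over S) (t : T' ⟶ P), (∃ k, k ≫ i = t ≫ e) ∨ (∃ k, k ≫ j = t ≫ e) →
      (yon S).map t ≫ h = (yon S).map t ≫ h') : h = h' := by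
  refine AlgSpDec.hom_ext_of_openCover P.left.affineCover _ _ fun l => ?_
  let N : Over S := Over.mk (P.left.affineCover.f l ≫ P.hom)
  let n : N ⟶ P := Over.homMk (P.left.affineCover.f l) rfl
  have : IsAffine N.left := inferInstanceAs (IsAffine (P.left.affineCover.X l))
  have : Flat (n ≫ e).left := inferInstanceAs (Flat (P.left.affineCover.f l ≫ e.left))
  obtain ⟨YN, a₁, b₁, sq₁, sq₁'⟩ := exists_isPullback_over i (n ≫ e)
  obtain ⟨ZN, a₂, b₂, sq₂, sq₂'⟩ := exists_isPullback_over j (n ≫ e)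
  refine uniq_affine hT (hu.pullback _ sq₁' sq₂') _ _ ?_ ?_
  · rw [← Functor.map_comp_assoc, ← Functor.map_comp_assoc]
    exact hag _ _ (Or.inl ⟨a₁, by rw [Category.assoc]; exact sq₁.w⟩)
  · rw [← Functor.map_comp_assoc, ← Functor.map_comp_assoc]
    exact hag _ _ (Or.inr ⟨a₂, by rw [Category.assoc]; exact sq₂.w⟩)

/-- An etale scheme over a closed subscheme extends near any of its points. -/
theorem exists_lift_nbhd {W Y Q : Over S} (i : Y ⟶ W) [IsClosedImmersion i.left] (r : Q ⟶ Y) [Etale r.left]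
    (q : ↥Q.left) :
    ∃ (P YP : Over S) (e : P ⟶ W) (a : YP ⟶ Y) (b : YP ⟶ P) (k : YP ⟶ Q) (x : ↥YP.left),
      IsAffine P.left ∧ Etale e.left ∧ IsPullback a b i e ∧ k ≫ r = a ∧ k.left x = q := by
  obtain ⟨V, hh, hhr, -, v, hv⟩ := EtFound.exists_etale_lift i.left r.left q
  obtain ⟨N, hN, hvN⟩ : ∃ N : V.left.Opens, IsAffineOpen N ∧ (pullback.fst V.hom i.left).base v ∈ N := by
    obtain ⟨N, hN, h1, -⟩ := exists_isAffineOpen_mem_and_subset (U := (⊤ : V.left.Opens))
      (TopologicalSpace.Opens.mem_top ((pullback.fst V.hom i.left).base v))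
    exact ⟨N, hN, h1⟩
  have : Etale V.hom := V.prop
  let P : Over S := Over.mk ((N.ι ≫ V.hom) ≫ W.hom)
  let e : P ⟶ W := Over.homMk (N.ι ≫ V.hom) rfl
  obtain ⟨YP, a, b, sq, sq'⟩ := exists_isPullback_over i e
  let l : YP.left ⟶ pullback V.hom i.left := pullback.lift (b.left ≫ N.ι) a.left
    (by rw [Category.assoc]; exact sq'.w.symm)
  let k : YP ⟶ Q := Over.homMk (l ≫ hh) (by
    have h1 : (l ≫ hh) ≫ r.left = a.left := by
      rw [Category.assoc, hhr, pullback.lift_snd]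
    rw [← Over.w a, ← h1]
    simp only [Category.assoc, Over.w r])
  obtain ⟨x, hx1, hx2⟩ := Scheme.exists_preimage_of_isPullback sq' ((pullback.snd V.hom i.left).base v)
    (⟨_, hvN⟩ : N.toScheme) (by
      show i.left.base _ = (N.ι ≫ V.hom).base _
      rw [Scheme.Hom.comp_apply, ← Scheme.Hom.comp_apply, ← pullback.condition, Scheme.Hom.comp_apply]
      rfl)
  refine ⟨P, YP, e, a, b, k, x, hN, inferInstanceAs (Etale (N.ι ≫ V.hom)), sq, ?_, ?_⟩
  · apply Over.OverMorphism.ext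
    show (l ≫ hh) ≫ r.left = a.left
    rw [Category.assoc, hhr, pullback.lift_snd]
  · show (l ≫ hh).base x = q
    rw [Scheme.Hom.comp_apply, ← hv]
    refine congrArg hh.base ?_
    have hm : Mono (pullback.fst V.hom i.left) := inferInstance
    refine injective_of_mono (pullback.fst V.hom i.left) ?_
    rw [← Scheme.Hom.comp_apply, pullback.lift_fst, Scheme.Hom.comp_apply, hx2]
    rfl

/-- A map on an etale neighbourhood extending given maps on the two closed subschemes. -/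
def IsSol {W Y Z : Over S} (i : Y ⟶ W) (j : Z ⟶ W) (f : (yon S).obj Y ⟶ T) (g : (yon S).obj Z ⟶ T)
    {P : Over S} (e : P ⟶ W) (h : (yon S).obj P ⟶ T) : Prop :=
  ∀ (T' : Over S) (t : T' ⟶ P), (∀ k, k ≫ i = t ≫ e → (yon S).map t ≫ h = (yon S).map k ≫ f) ∧
    ∀ k, k ≫ j = t ≫ e → (yon S).map t ≫ h = (yon S).map k ≫ g

theorem IsUnion.symm {W Y Z : Scheme.{u}} {i : Y ⟶ W} {j : Z ⟶ W} (h : IsUnion i j) : IsUnion j i :=
  ⟨h.affine, h.clJ, h.clI, by rw [inf_comm]; exact h.inf⟩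

variable {W Y Z : Over S} {i : Y ⟶ W} {j : Z ⟶ W} (hu : IsUnion i.left j.left)
  {f : (yon S).obj Y ⟶ T} {g : (yon S).obj Z ⟶ T}

include hu in
theorem exists_sol_of_not_mem (w : ↥W.left) (hw : w ∉ Set.range j.left.base) :
    ∃ (P : Over S) (e : P ⟶ W) (h : (yon S).obj P ⟶ T), IsAffine P.left ∧ Etale e.left ∧
      w ∈ Set.range e.left.base ∧ IsSol i j f g e h := by
  have := hu.clI
  have := hu.clJ
  obtain ⟨N, hN, hwN, hsub⟩ := exists_isAffineOpen_mem_and_subset
    (U := (⟨_, j.left.isClosedEmbedding.isClosed_range.isOpen_compl⟩ : W.left.Opens))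
    (show w ∈ (Set.range j.left.base)ᶜ from hw)
  let P : Over S := Over.mk (N.ι ≫ W.hom)
  let e : P ⟶ W := Over.homMk N.ι rfl
  have : IsAffine P.left := hN
  obtain ⟨YP, a, b, sq, sq'⟩ := exists_isPullback_over i e
  obtain ⟨ZP, a₂, b₂, sq₂, sq₂'⟩ := exists_isPullback_over j e
  have : IsEmpty ↥ZP.left := ⟨fun z => by
    have h1 := congrArg (fun m => m.base z) sq₂'.w
    simp only [Scheme.Hom.comp_apply] at h1
    exact hsub (show N.ι.base (b₂.left.base z) ∈ N from (b₂.left.base z).2) ⟨_, h1⟩⟩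
  have : Flat e.left := inferInstanceAs (Flat N.ι)
  have hu' := hu.pullback e.left sq' sq₂'
  have := hu'.clI
  have : IsIso b.left := hu'.isIso_of_mono b.left (𝟙 _) (isInitialOfIsEmpty.to YP.left) (Category.id_comp _)
    (isInitialOfIsEmpty.hom_ext _ _)
  have : IsIso ((Over.forget S).map b) := this
  have : IsIso b := isIso_of_reflects_iso b (Over.forget S)
  refine ⟨P, e, (yon S).map (inv b ≫ a) ≫ f, hN, inferInstanceAs (Etale N.ι), ⟨⟨w, hwN⟩, rfl⟩,
    fun T' t => ⟨fun k hk => ?_, fun k hk => ?_⟩⟩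
  · rw [← Functor.map_comp_assoc]
    congr 2
    have h1 : (sq.lift k t hk) = t ≫ inv b := by
      rw [← cancel_mono b, sq.lift_snd, Category.assoc, IsIso.inv_hom_id, Category.comp_id]
    rw [← Category.assoc, ← h1, sq.lift_fst]
  · have : IsEmpty ↥T'.left := ⟨fun z => (IsEmpty.false ((sq₂.lift k t hk).left.base z) : False)⟩
    exact AlgSpDec.hom_ext_of_isEmpty _ _

include hT hu in
theorem exists_sol (hfg : ∀ (T' : Over S) (a : T' ⟶ Y) (b : T' ⟶ Z), a ≫ i = b ≫ j →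
      (yon S).map a ≫ f = (yon S).map b ≫ g) (w : ↥W.left) :
    ∃ (P : Over S) (e : P ⟶ W) (h : (yon S).obj P ⟶ T), IsAffine P.left ∧ Etale e.left ∧
      w ∈ Set.range e.left.base ∧ IsSol i j f g e h := by
  by_cases hwj : w ∈ Set.range j.left.base
  swap
  · exact exists_sol_of_not_mem hu w hwj
  by_cases hwi : w ∈ Set.range i.left.base
  swap
  · obtain ⟨P, e, h, hP, he, hx, hs⟩ := exists_sol_of_not_mem hu.symm (f := g) (g := f) w hwi
    exact ⟨P, e, h, hP, he, hx, fun T' t => (hs T' t).symm⟩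
  obtain ⟨y₀, hy₀⟩ := hwi
  obtain ⟨z₀, hz₀⟩ := hwj
  have := hu.clI
  have := hu.clJ
  obtain ⟨U, p, hpe, hps⟩ := hT.atlas
  -- lift on the first closed subscheme
  let Q := hpe.rep.pullback f
  let r : Q ⟶ Y := hpe.rep.snd f
  let u : Q ⟶ U := hpe.rep.fst' f
  have : Etale r.left := hpe.property_snd f
  have : Surjective r.left := hps.property_snd f
  obtain ⟨q, hq⟩ := r.left.surjective y₀
  obtain ⟨Uo, hUo, huU⟩ : ∃ Uo : U.left.Opens, IsAffineOpen Uo ∧ u.left.base q ∈ Uo := by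
    obtain ⟨N, hN, h1, -⟩ := exists_isAffineOpen_mem_and_subset (U := (⊤ : U.left.Opens))
      (TopologicalSpace.Opens.mem_top (u.left.base q))
    exact ⟨N, hN, h1⟩
  let Q' : Over S := Over.mk ((u.left ⁻¹ᵁ Uo).ι ≫ Q.hom)
  let ι : Q' ⟶ Q := Over.homMk (u.left ⁻¹ᵁ Uo).ι rfl
  have : Etale (ι ≫ r).left := inferInstanceAs (Etale ((u.left ⁻¹ᵁ Uo).ι ≫ r.left))
  obtain ⟨P₁, Y₁, e₁, a, b, k₁, x, hP₁, he₁, sq, hk₁, hx⟩ := exists_lift_nbhd i (ι ≫ r) ⟨q, huU⟩
  obtain ⟨Z₁, a', c, sq₂, sq₂'⟩ := exists_isPullback_over j e₁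
  have sq' := forget_isPullback sq
  have hu₁ : IsUnion b.left c.left := hu.pullback e₁.left sq' sq₂'
  have := hu₁.clI
  have := hu₁.clJ
  let y₁ : Y₁ ⟶ U := k₁ ≫ ι ≫ u
  have hy₁ : (yon S).map y₁ ≫ p = (yon S).map a ≫ f := by
    rw [← hk₁]
    simp only [y₁, Functor.map_comp, Category.assoc]
    refine congrArg _ (congrArg _ ?_)
    exact (hpe.rep.isPullback' f).w
  have hy₁O : ∀ y, y₁.left.base y ∈ Uo := fun y => (k₁.left.base y).2
  have hxw : e₁.left.base (b.left.base x) = w := by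
    rw [← Scheme.Hom.comp_apply, ← sq'.w, Scheme.Hom.comp_apply, ← hy₀]
    refine congrArg i.left.base ?_
    rw [← hk₁, ← hq]
    show r.left.base (ι.left.base (k₁.left.base x)) = _
    rw [hx]
    rfl
  obtain ⟨xz, hxz1, hxz2⟩ := Scheme.exists_preimage_of_isPullback sq₂' z₀ (b.left.base x) (hz₀.trans hxw.symm)
  -- lift on the second closed subscheme
  let g₁ : (yon S).obj Z₁ ⟶ T := (yon S).map a' ≫ g
  let Q₂ := hpe.rep.pullback g₁
  let r₂ : Q₂ ⟶ Z₁ := hpe.rep.snd g₁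
  let u₂ : Q₂ ⟶ U := hpe.rep.fst' g₁
  have : Etale r₂.left := hpe.property_snd g₁
  obtain ⟨V, c', d', sqV, sqV'⟩ := exists_isPullback_over b c
  have hagree : (yon S).map (c' ≫ y₁) ≫ p = (yon S).map d' ≫ g₁ := by
    rw [Functor.map_comp, Category.assoc, hy₁, ← Functor.map_comp_assoc, ← Functor.map_comp_assoc]
    refine hfg _ _ _ ?_
    rw [Category.assoc, sq.w, sqV.w_assoc, Category.assoc, ← sq₂.w]
  let s : V ⟶ Q₂ := hpe.rep.lift' (c' ≫ y₁) d' hagree
  obtain ⟨Q₂V, pr, rV, sqQ, sqQ'⟩ := exists_isPullback_over r₂ d'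
  let σ : V ⟶ Q₂V := sqQ.lift s (𝟙 V) (by rw [Category.id_comp]; exact hpe.rep.lift'_snd _ _ hagree)
  have : Etale rV.left := MorphismProperty.of_isPullback (P := @Etale) sqQ' ‹_›
  have : IsOpenImmersion σ.left := EtFound.isOpenImmersion_section rV.left σ.left
    (by rw [← Over.comp_left, sqQ.lift_snd]; rfl)
  have : IsClosedImmersion d'.left := MorphismProperty.of_isPullback (P := @IsClosedImmersion) sqV' ‹_›
  have : IsClosedImmersion pr.left := MorphismProperty.of_isPullback (P := @IsClosedImmersion) sqQ'.flip ‹_›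
  obtain ⟨O, hO, hOσ⟩ := pr.left.isClosedEmbedding.isInducing.isOpen_iff.1 σ.left.isOpenEmbedding.isOpen_range
  obtain ⟨v, hv1, hv2⟩ := Scheme.exists_preimage_of_isPullback sqV' x xz hxz2.symm
  let q₂ := s.left.base v
  have hq₂O : q₂ ∈ O := by
    have : σ.left.base v ∈ pr.left.base ⁻¹' O := hOσ.ge ⟨v, rfl⟩
    have e1 : pr.left.base (σ.left.base v) = q₂ := by
      rw [← Scheme.Hom.comp_apply, ← Over.comp_left, sqQ.lift_fst]
    rwa [Set.mem_preimage, e1] at this
  have hq₂U : u₂.left.base q₂ ∈ Uo := by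
    have e1 : u₂.left.base q₂ = y₁.left.base (c'.left.base v) := by
      rw [← Scheme.Hom.comp_apply, ← Over.comp_left, hpe.rep.lift'_fst, Over.comp_left, Scheme.Hom.comp_apply]
    rw [e1]; exact hy₁O _
  let O' : Q₂.left.Opens := ⟨O, hO⟩ ⊓ u₂.left ⁻¹ᵁ Uo
  let Q₃ : Over S := Over.mk (O'.ι ≫ Q₂.hom)
  let ι₂ : Q₃ ⟶ Q₂ := Over.homMk O'.ι rfl
  have : Etale (ι₂ ≫ r₂).left := inferInstanceAs (Etale (O'.ι ≫ r₂.left))
  obtain ⟨P, ZP, e₂, a₂, b₂, k₂, x₂, hP, he₂, sqZ, hk₂, hx₂⟩ := exists_lift_nbhd c (ι₂ ≫ r₂) ⟨q₂, hq₂O, hq₂U⟩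
  obtain ⟨YP, a₁, b₁, sqY, sqY'⟩ := exists_isPullback_over b e₂
  have sqZ' := forget_isPullback sqZ
  have hu₂ : IsUnion b₁.left b₂.left := hu₁.pullback e₂.left sqY' sqZ'
  obtain ⟨VP, cP, dP, sqP, sqP'⟩ := exists_isPullback_over b₁ b₂
  let z₂ : ZP ⟶ U := k₂ ≫ ι₂ ≫ u₂
  let y₂ : YP ⟶ U := a₁ ≫ y₁
  have hz₂ : (yon S).map z₂ ≫ p = (yon S).map a₂ ≫ g₁ := by
    rw [← hk₂]
    simp only [z₂, Functor.map_comp, Category.assoc]
    refine congrArg _ (congrArg _ ?_)
    exact (hpe.rep.isPullback' g₁).w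
  have hV : cP ≫ y₂ = dP ≫ z₂ := by
    let m : VP ⟶ V := sqV.lift (cP ≫ a₁) (dP ≫ a₂)
      (by rw [Category.assoc, sqY.w, sqP.w_assoc, Category.assoc, sqZ.w])
    let n : VP ⟶ Q₂V := sqQ.lift (dP ≫ k₂ ≫ ι₂) m (by
      rw [Category.assoc, Category.assoc, hk₂, sqV.lift_snd])
    have hr : Set.range n.left.base ⊆ Set.range σ.left.base := by
      rintro _ ⟨y, rfl⟩
      rw [← hOσ, Set.mem_preimage, ← Scheme.Hom.comp_apply, ← Over.comp_left, sqQ.lift_fst]
      exact (k₂.left.base (dP.left.base y)).2.1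
    have h1 : IsOpenImmersion.lift σ.left n.left hr = m.left := by
      have h2 := congrArg (· ≫ rV.left) (IsOpenImmersion.lift_fac σ.left n.left hr)
      simp only [Category.assoc] at h2
      rw [← Over.comp_left, sqQ.lift_snd, ← Over.comp_left, sqQ.lift_snd] at h2
      exact (Category.comp_id _).symm.trans h2
    have h3 : n = m ≫ σ := Over.OverMorphism.ext (by
      rw [Over.comp_left, ← h1]; exact (IsOpenImmersion.lift_fac _ _ _).symm)
    have h4 : dP ≫ k₂ ≫ ι₂ = m ≫ s := by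
      exact (sqQ.lift_fst _ _ _).symm.trans ((congrArg (· ≫ pr) h3).trans
        ((Category.assoc _ _ _).trans (congrArg (m ≫ ·) (sqQ.lift_fst _ _ _))))
    calc cP ≫ y₂ = (m ≫ c') ≫ y₁ := by rw [sqV.lift_fst, Category.assoc]
      _ = (m ≫ s) ≫ u₂ := by rw [Category.assoc, Category.assoc, hpe.rep.lift'_fst]
      _ = dP ≫ z₂ := by rw [← h4]; simp only [z₂, Category.assoc]
  have : IsAffine Uo.toScheme := hUo
  have hyr : Set.range y₂.left.base ⊆ Set.range Uo.ι.base := by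
    rw [Scheme.Opens.range_ι]; rintro _ ⟨y, rfl⟩; exact hy₁O _
  have hzr : Set.range z₂.left.base ⊆ Set.range Uo.ι.base := by
    rw [Scheme.Opens.range_ι]; rintro _ ⟨y, rfl⟩; exact (k₂.left.base y).2.2
  obtain ⟨m, hm1, hm2⟩ := hu₂.exists_desc sqP' (IsOpenImmersion.lift Uo.ι y₂.left hyr)
    (IsOpenImmersion.lift Uo.ι z₂.left hzr) (by
      rw [← cancel_mono Uo.ι, Category.assoc, Category.assoc, IsOpenImmersion.lift_fac, IsOpenImmersion.lift_fac,
        ← Over.comp_left, ← Over.comp_left, hV])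
  let M : P ⟶ U := Over.homMk (m ≫ Uo.ι) (hu₂.hom_ext _ _
    (by rw [← Category.assoc, ← Category.assoc b₁.left, hm1, IsOpenImmersion.lift_fac, Over.w, Over.w])
    (by rw [← Category.assoc, ← Category.assoc b₂.left, hm2, IsOpenImmersion.lift_fac, Over.w, Over.w]))
  have hMy : b₁ ≫ M = y₂ := Over.OverMorphism.ext (by
    show b₁.left ≫ m ≫ Uo.ι = _
    rw [← Category.assoc, hm1, IsOpenImmersion.lift_fac])
  have hMz : b₂ ≫ M = z₂ := Over.OverMorphism.ext (by
    show b₂.left ≫ m ≫ Uo.ι = _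
    rw [← Category.assoc, hm2, IsOpenImmersion.lift_fac])
  refine ⟨P, e₂ ≫ e₁, (yon S).map M ≫ p, hP, inferInstanceAs (Etale (e₂.left ≫ e₁.left)),
    ⟨b₂.left.base x₂, ?_⟩, fun T' t => ⟨fun k hk => ?_, fun k hk => ?_⟩⟩
  · show (e₂.left ≫ e₁.left).base _ = w
    have h1 : a₂.left.base x₂ = xz := by
      rw [← hk₂]
      show r₂.left.base (ι₂.left.base (k₂.left.base x₂)) = _
      rw [hx₂]
      show r₂.left.base (s.left.base v) = _
      rw [← Scheme.Hom.comp_apply, ← Over.comp_left, hpe.rep.lift'_snd, hv2]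
    rw [Scheme.Hom.comp_apply, ← Scheme.Hom.comp_apply b₂.left, ← sqZ'.w, Scheme.Hom.comp_apply, h1, hxz2, hxw]
  · have hk' : sq.lift k (t ≫ e₂) (by rw [Category.assoc]; exact hk) ≫ b = t ≫ e₂ := sq.lift_snd _ _ _
    rw [← Functor.map_comp_assoc, ← sqY.lift_snd _ t hk', Category.assoc, hMy, ← Category.assoc, sqY.lift_fst,
      Functor.map_comp, Category.assoc, hy₁, ← Functor.map_comp_assoc, sq.lift_fst]
  · have hk' : sq₂.lift k (t ≫ e₂) (by rw [Category.assoc]; exact hk) ≫ c = t ≫ e₂ := sq₂.lift_snd _ _ _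
    rw [← Functor.map_comp_assoc, ← sqZ.lift_snd _ t hk', Category.assoc, hMz, Functor.map_comp, Category.assoc,
      hz₂, ← Functor.map_comp_assoc, sqZ.lift_fst, ← Functor.map_comp_assoc, sq₂.lift_fst]

end Groth.Agent.SpUnion5
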