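import Groth.Agent.SpUnion5.Affine
import Groth.Agent.AlgSpDec.OpenGlue

/-!
# A reduced space covered by two closed subschemes is a scheme
-/

set_option backward.isDefEq.respectTransparency false
set_option backward.isDefEq.respectTransparency.types false
set_option autoImplicit false
set_option linter.style.haveILetI false

universe u

open CategoryTheory CategoryTheory.Limits AlgebraicGeometry Opposite AlgSp
open Groth.Agent.AlgSpLib Groth.Agent.AlgSpPts Groth.Agent.AlgSpDec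

namespace Groth.Agent.SpUnion5

/-- Affine opens of two schemes with the same trace on a common closed subscheme, one containing a given point. -/
theorem exists_affine_pair {S : Scheme.{u}} {Y₁ Y₂ R : Over S} (c : R ⟶ Y₁) (d : R ⟶ Y₂)
    [IsClosedImmersion c.left] [IsClosedImmersion d.left] (y : ↥Y₁.left) :
    ∃ (S₀ : S.Opens) (A₁ : Y₁.left.Opens) (A₂ : Y₂.left.Opens), IsAffineOpen S₀ ∧ IsAffineOpen A₁ ∧ IsAffineOpen A₂ ∧
      (∀ a ∈ A₁, Y₁.hom.base a ∈ S₀) ∧ (∀ a ∈ A₂, Y₂.hom.base a ∈ S₀) ∧ y ∈ A₁ ∧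
      c.left ⁻¹ᵁ A₁ = d.left ⁻¹ᵁ A₂ := by
  obtain ⟨S₀, hS₀, hy₀, -⟩ := exists_isAffineOpen_mem_and_subset (U := (⊤ : S.Opens))
    (TopologicalSpace.Opens.mem_top (Y₁.hom.base y))
  by_cases hy : y ∈ Set.range c.left.base
  · obtain ⟨r, rfl⟩ := hy
    obtain ⟨N₁, hN₁, hr₁, hs₁⟩ := exists_isAffineOpen_mem_and_subset (U := Y₁.hom ⁻¹ᵁ S₀) hy₀
    have hy₂ : Y₂.hom.base (d.left.base r) ∈ S₀ := by
      have e : Y₂.hom.base (d.left.base r) = Y₁.hom.base (c.left.base r) := by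
        rw [← Scheme.Hom.comp_apply, Over.w, ← Scheme.Hom.comp_apply, Over.w]
      rw [e]; exact hy₀
    obtain ⟨N₂, hN₂, hr₂, hs₂⟩ := exists_isAffineOpen_mem_and_subset (U := Y₂.hom ⁻¹ᵁ S₀) hy₂
    obtain ⟨f, g, e, hf⟩ := exists_basicOpen_le_affine_inter (hN₁.preimage c.left) (hN₂.preimage d.left) r ⟨hr₁, hr₂⟩
    obtain ⟨f', rfl⟩ := c.left.app_surjective N₁ hN₁ f
    obtain ⟨g', rfl⟩ := d.left.app_surjective N₂ hN₂ g
    refine ⟨S₀, Y₁.left.basicOpen f', Y₂.left.basicOpen g', hS₀, hN₁.basicOpen f', hN₂.basicOpen g',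
      fun a ha => hs₁ (Y₁.left.basicOpen_le f' ha), fun a ha => hs₂ (Y₂.left.basicOpen_le g' ha), ?_, ?_⟩
    · show r ∈ c.left ⁻¹ᵁ Y₁.left.basicOpen f'
      rw [Scheme.preimage_basicOpen]; exact hf
    · rw [Scheme.preimage_basicOpen, Scheme.preimage_basicOpen]; exact e
  · obtain ⟨A, hA, hyA, hsA⟩ := exists_isAffineOpen_mem_and_subset
      (U := (Y₁.hom ⁻¹ᵁ S₀) ⊓ ⟨_, c.left.isClosedEmbedding.isClosed_range.isOpen_compl⟩) ⟨hy₀, hy⟩
    refine ⟨S₀, A, ⊥, hS₀, hA, isAffineOpen_bot _, fun a ha => (hsA ha).1, fun a ha => ha.elim, hyA,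
      TopologicalSpace.Opens.ext (Set.ext fun r => ⟨fun hr => ((hsA hr).2 ⟨r, rfl⟩).elim, fun hr => hr.elim⟩)⟩

variable {S : Scheme.{u}} {X : Sp S} (hX : IsAlgSpace X) (hred : IsReducedSp X) {Y₁ Y₂ : Over S}
  {z₁ : (yon S).obj Y₁ ⟶ X} {z₂ : (yon S).obj Y₂ ⟶ X}

theorem map_eq_ofPt {T : Over S} (g : (yon S).obj T ⟶ X) (t : ↥T.left) :
    Points.map g (Points.ofScheme T t) = Points.ofPt g t :=
  (Points.ofPt_eq_map_ofScheme g t).symm

theorem range_map_eq {T : Over S} (g : (yon S).obj T ⟶ X) : Set.range (Points.map g) = Set.range (Points.ofPt g) := by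
  ext x
  constructor
  · rintro ⟨p, rfl⟩
    exact ⟨Points.toScheme T p, by rw [← map_eq_ofPt, Points.ofScheme_toScheme]⟩
  · rintro ⟨t, rfl⟩
    exact ⟨_, map_eq_ofPt g t⟩

include hX hred in
theorem exists_scheme_nbhd (hz₁ : RepWith @IsClosedImmersion z₁) (hz₂ : RepWith @IsClosedImmersion z₂)
    (hcov : Set.range (Points.map z₁) ∪ Set.range (Points.map z₂) = Set.univ) (y : ↥Y₁.left) :
    ∃ (W : Over S) (j : (yon S).obj W ⟶ X), RepWith @IsOpenImmersion j ∧
      Points.ofPt z₁ y ∈ Set.range (Points.ofPt j) := by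
  have hcl : ∀ {Y : Over S} {z : (yon S).obj Y ⟶ X} (hz : RepWith @IsClosedImmersion z) (C : Set ↥Y.left),
      IsClosed C → IsClosed (Points.ofPt z '' C) := fun {Y z} hz C hC => by
    have huc : RepWith @UniversallyClosed z := ⟨hz.rep, fun _ _ g fst snd sq => by
      have : IsClosedImmersion snd.left := hz.property g fst snd sq
      exact (inferInstance : UniversallyClosed snd.left)⟩
    have : Points.ofPt z '' C = Points.map z '' (Points.schemeEquiv Y '' C) := by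
      rw [Set.image_image]; exact Set.image_congr fun t _ => (map_eq_ofPt z t).symm
    rw [this]
    exact isClosedMap_map huc _ ((Points.schemeHomeo Y).isClosedMap _ hC)
  have hinj : ∀ {Y : Over S} {z : (yon S).obj Y ⟶ X} (hz : RepWith @IsClosedImmersion z),
      Function.Injective (Points.ofPt z) := fun {Y z} hz t t' h => by
    have hi : RepWith (fun A B (h : A ⟶ B) => Function.Injective h) z := ⟨hz.rep, fun _ _ g fst snd sq => by
      have : IsClosedImmersion snd.left := hz.property g fst snd sq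
      exact snd.left.isClosedEmbedding.injective⟩
    exact (Points.schemeEquiv Y).injective (injective_map hi (by rw [← map_eq_ofPt, ← map_eq_ofPt] at h; exact h))
  let R := hz₁.rep.pullback z₂
  let c : R ⟶ Y₁ := hz₁.rep.fst' z₂
  let d : R ⟶ Y₂ := hz₁.rep.snd z₂
  have sqR : IsPullback ((yon S).map c) ((yon S).map d) z₁ z₂ := hz₁.rep.isPullback' z₂
  have : IsClosedImmersion d.left := hz₁.property_snd z₂
  have : IsClosedImmersion c.left := hz₂.property _ _ _ sqR.flip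
  obtain ⟨S₀, A₁, A₂, hS₀, hA₁, hA₂, hs₁, hs₂, hy, hAA⟩ := exists_affine_pair c d y
  let O' : Set (Points X) := (Points.ofPt z₁ '' (A₁ : Set ↥Y₁.left)ᶜ ∪ Points.ofPt z₂ '' (A₂ : Set ↥Y₂.left)ᶜ)ᶜ
  have hO' : IsOpen O' := ((hcl hz₁ _ A₁.2.isClosed_compl).union (hcl hz₂ _ A₂.2.isClosed_compl)).isOpen_compl
  have hmeet : ∀ a b, Points.ofPt z₁ a = Points.ofPt z₂ b → (a ∈ A₁ ↔ b ∈ A₂) := fun a b hab => by
    obtain ⟨r, hr₁, hr₂⟩ := AlgSpPts.exists_lift sqR (x := Points.schemeEquiv Y₁ a) (t := b)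
      ((map_eq_ofPt z₁ a).trans hab)
    have hca : c.left.base r = a := by
      have h := congrArg (Points.toScheme Y₁) hr₁
      exact (Points.toScheme_ofPt c r).symm.trans (h.trans (Points.toScheme_ofScheme _ a))
    have hh : r ∈ c.left ⁻¹ᵁ A₁ ↔ r ∈ d.left ⁻¹ᵁ A₂ := by rw [hAA]
    rw [← hca, ← hr₂]
    exact hh
  have hpre₁ : ∀ a, Points.ofPt z₁ a ∈ O' ↔ a ∈ A₁ := fun a => by
    refine ⟨fun h => by_contra fun ha => h (Or.inl ⟨a, ha, rfl⟩), fun ha h => ?_⟩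
    rcases h with ⟨a', ha', he⟩ | ⟨b, hb, he⟩
    · exact ha' (hinj hz₁ he ▸ ha)
    · exact hb ((hmeet a b he.symm).1 ha)
  have hpre₂ : ∀ b, Points.ofPt z₂ b ∈ O' ↔ b ∈ A₂ := fun b => by
    refine ⟨fun h => by_contra fun hb => h (Or.inr ⟨b, hb, rfl⟩), fun hb h => ?_⟩
    rcases h with ⟨a, ha, he⟩ | ⟨b', hb', he⟩
    · exact ha ((hmeet a b he).2 hb)
    · exact hb' (hinj hz₂ he ▸ hb)
  obtain ⟨O, o, hO, ho, hor⟩ := exists_open_subspace hX hO'
  have hpiece : ∀ {Y : Over S} {z : (yon S).obj Y ⟶ X} (hz : RepWith @IsClosedImmersion z) {A : Y.left.Opens}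
      (hA : IsAffineOpen A) (hpre : ∀ a, Points.ofPt z a ∈ O' ↔ a ∈ A), ∃ (P : Over S) (a : (yon S).obj P ⟶ O)
        (p : P ⟶ Y), IsAffine P.left ∧ RepWith @IsClosedImmersion a ∧ Set.range p.left.base = (A : Set ↥Y.left) ∧
          a ≫ o = (yon S).map p ≫ z := fun {Y z} hz {A} hA hpre => by
    let P := ho.rep.pullback z
    let a : (yon S).obj P ⟶ O := ho.rep.fst z
    let p : P ⟶ Y := ho.rep.snd z
    have sq : IsPullback a ((yon S).map p) o z := ho.rep.isPullback z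
    have : IsOpenImmersion p.left := ho.property_snd z
    have hrange : Set.range p.left.base = (A : Set ↥Y.left) := by
      ext t
      constructor
      · rintro ⟨v, rfl⟩
        refine (hpre _).1 ?_
        rw [← ofPt_comp, ← sq.w, ← Points.map_ofPt, ← hor]
        exact ⟨_, rfl⟩
      · intro ht
        obtain ⟨x, hx⟩ := hor.ge ((hpre t).2 ht)
        obtain ⟨v, -, hv⟩ := AlgSpPts.exists_lift sq hx
        exact ⟨v, hv⟩
    have hPA : IsAffine P.left := by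
      have : IsAffine A.toScheme := hA
      exact IsAffine.of_isIso (IsOpenImmersion.isoOfRangeEq p.left A.ι (by rw [Scheme.Opens.range_ι]; exact hrange)).hom
    exact ⟨P, a, p, hPA, repWith_of_isPullback sq.flip hz, hrange, sq.w⟩
  obtain ⟨P₁, a, p₁, hP₁, ha, hp₁, hw₁⟩ := hpiece hz₁ hA₁ hpre₁
  obtain ⟨P₂, b, p₂, hP₂, hb, hp₂, hw₂⟩ := hpiece hz₂ hA₂ hpre₂
  have hredO : IsReducedSp O := by
    obtain ⟨U, φ, hφ, hφs⟩ := hO.atlas
    exact ⟨U, φ, hφ, hφs, WeakAssUnit.isReduced_chart hred (φ ≫ o) (repWith_comp hφ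
      ⟨ho.rep, fun _ _ g fst snd sq => by
        have : IsOpenImmersion snd.left := ho.property g fst snd sq
        exact (inferInstance : Etale snd.left)⟩)⟩
  have hojinj : Function.Injective (Points.map o) := (isOpenEmbedding_map' hX ho).injective
  have hcov' : Set.range (Points.map a) ∪ Set.range (Points.map b) = Set.univ := by
    refine Set.eq_univ_of_forall fun x => ?_
    have hx : Points.map o x ∈ O' := hor.le ⟨x, rfl⟩
    have hkey : ∀ {Y P : Over S} {z : (yon S).obj Y ⟶ X} {q : (yon S).obj P ⟶ O} {p : P ⟶ Y} {A : Y.left.Opens},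
        (∀ t, Points.ofPt z t ∈ O' ↔ t ∈ A) → Set.range p.left.base = (A : Set ↥Y.left) → q ≫ o = (yon S).map p ≫ z →
        Points.map o x ∈ Set.range (Points.map z) → x ∈ Set.range (Points.map q) := fun {Y P z q p A} hpre hp hw hz => by
      rw [range_map_eq] at hz ⊢
      obtain ⟨t, ht⟩ := hz
      obtain ⟨v, rfl⟩ := hp.ge ((hpre t).1 (ht ▸ hx))
      exact ⟨v, hojinj (by rw [Points.map_ofPt, hw, ofPt_comp, ht])⟩
    rcases hcov.ge (Set.mem_univ (Points.map o x)) with h | h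
    · exact Or.inl (hkey hpre₁ hp₁ hw₁ h)
    · exact Or.inr (hkey hpre₂ hp₂ hw₂ h)
  obtain ⟨W, ⟨e⟩⟩ := exists_iso_of_closed_cover hO hredO ha hb hcov' hS₀
    (by
      rintro _ ⟨v, rfl⟩
      rw [← Over.w p₁, Scheme.Hom.comp_apply]
      exact hs₁ _ (hp₁.le ⟨v, rfl⟩))
    (by
      rintro _ ⟨v, rfl⟩
      rw [← Over.w p₂, Scheme.Hom.comp_apply]
      exact hs₂ _ (hp₂.le ⟨v, rfl⟩))
  have hej : RepWith @IsOpenImmersion (e.hom ≫ o) :=
    repWith_comp (repWith_of_isPullback (IsPullback.of_horiz_isIso (fst := e.hom) (snd := e.hom) (f := 𝟙 O) (g := 𝟙 O)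
      ⟨by rw [Category.comp_id]⟩) (MorphismProperty.id_mem _ O)) ho
  refine ⟨W, e.hom ≫ o, hej, ?_⟩
  obtain ⟨x, hx⟩ := hor.ge ((hpre₁ y).2 hy)
  refine ⟨Points.toScheme W (Points.map e.inv x), ?_⟩
  rw [← map_eq_ofPt, Points.ofScheme_toScheme, ← Points.map_comp, Iso.inv_hom_id_assoc]
  exact hx

include hX hred in
theorem exists_iso_of_two_closed (hz₁ : RepWith @IsClosedImmersion z₁) (hz₂ : RepWith @IsClosedImmersion z₂)
    (hcov : Set.range (Points.map z₁) ∪ Set.range (Points.map z₂) = Set.univ) :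
    ∃ Q : Over S, Nonempty ((yon S).obj Q ≅ X) := by
  choose W₁ j₁ hj₁ hy₁ using fun y => exists_scheme_nbhd hX hred hz₁ hz₂ hcov y
  choose W₂ j₂ hj₂ hy₂ using fun y => exists_scheme_nbhd hX hred hz₂ hz₁ (by rwa [Set.union_comm]) y
  obtain ⟨Q, hQ, -⟩ := exists_iso_of_open_cover (Sum.elim W₁ W₂)
    (fun k => match k with | Sum.inl y => j₁ y | Sum.inr y => j₂ y)
    (fun k => match k with | Sum.inl y => hj₁ y | Sum.inr y => hj₂ y) fun x => by
      rcases hcov.ge (Set.mem_univ x) with h | h <;> rw [range_map_eq] at h <;> obtain ⟨y, rfl⟩ := h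
      · obtain ⟨v, hv⟩ := hy₁ y; exact ⟨Sum.inl y, v, hv⟩
      · obtain ⟨v, hv⟩ := hy₂ y; exact ⟨Sum.inr y, v, hv⟩
  exact ⟨Q, hQ⟩

end Groth.Agent.SpUnion5
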